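import Groth.Agent.Isoc.K797.Pieces

/-!
# The standard isocrystals are isoclinic and simple
-/

open scoped Pointwise Isocrystal

set_option linter.unusedSectionVars false

universe u v

namespace K797.Lat

section conc
variable (p : ℕ) [Fact p.Prime] (k : Type u) [Field k] [CharP k p] [PerfectRing k p] (a : ℤ)

theorem stdIsoc_single_succ (τ : K(p, k) →+* K(p, k)) (d : ℤ) (h : ℕ) (i : Fin h)
    (hi : i.val + 1 < h) (c : K(p, k)) :
    Isoc.stdIsoc τ d h (Pi.single i c) = Pi.single ⟨i.val + 1, hi⟩ (τ c) := by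
  obtain ⟨n, rfl⟩ : ∃ n, h = n + 1 := ⟨h - 1, by have := i.2; omega⟩
  have hrot : finRotate (n + 1) i = ⟨i.val + 1, hi⟩ := by
    apply Fin.ext
    rw [coe_finRotate_of_ne_last]
    intro h
    rw [h] at hi
    simp at hi
  ext j
  rw [Isoc.stdIsoc_apply]
  by_cases hj : j = ⟨i.val + 1, hi⟩
  · subst hj
    rw [← hrot, Equiv.symm_apply_apply, Pi.single_eq_same, Pi.single_eq_same, hrot]
    simp
  · rw [Pi.single_eq_of_ne hj, Pi.single_eq_of_ne, map_zero, mul_zero]
    rw [← hrot] at hj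
    intro h
    apply hj
    rw [← h, Equiv.apply_symm_apply]

theorem stdIsoc_single_last (τ : K(p, k) →+* K(p, k)) (d : ℤ) (n : ℕ) (c : K(p, k)) :
    Isoc.stdIsoc τ d (n + 1) (Pi.single (Fin.last n) c) =
      Pi.single 0 ((p : K(p, k)) ^ d * τ c) := by
  have hrot : finRotate (n + 1) (Fin.last n) = 0 := finRotate_last
  ext j
  rw [Isoc.stdIsoc_apply]
  by_cases hj : j = 0
  · subst hj
    rw [← hrot, Equiv.symm_apply_apply, Pi.single_eq_same, Pi.single_eq_same, hrot]
    simp
  · rw [Pi.single_eq_of_ne hj, Pi.single_eq_of_ne, map_zero, mul_zero]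
    intro h
    apply hj
    rw [← hrot, ← h, Equiv.apply_symm_apply]

theorem stdIsoc_iter_zero (τ : K(p, k) →+* K(p, k)) (d : ℤ) (n : ℕ) (i : ℕ) (hi : i < n + 1) :
    (⇑(Isoc.stdIsoc τ d (n + 1)))^[i] (Pi.single 0 1) = Pi.single ⟨i, hi⟩ 1 := by
  induction i with
  | zero => rfl
  | succ i ih =>
    rw [Function.iterate_succ', Function.comp_apply, ih (by omega),
      stdIsoc_single_succ p k τ d (n + 1) ⟨i, by omega⟩ hi, map_one]

/-- the standard lattice `W^h`. -/
noncomputable def stdLat (h : ℕ) : Submodule (WittVector p k) (Fin h → K(p, k)) :=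
  Submodule.span (WittVector p k) (Set.range fun i : Fin h => Pi.single i (1 : K(p, k)))

theorem stdLat_latIn (h : ℕ) : LatIn (⊤ : Submodule K(p, k) (Fin h → K(p, k))) (stdLat p k h) := by
  refine ⟨Submodule.fg_span (Set.finite_range _), ?_⟩
  unfold stdLat
  rw [Submodule.span_span_of_tower]
  have := (Pi.basisFun K(p, k) (Fin h)).span_eq
  rw [← this]
  congr 2
  funext i
  exact (Pi.basisFun_apply K(p, k) (Fin h) i).symm

/-- the Frobenius of the standard isocrystal. -/
noncomputable abbrev stdF (d : ℤ) (h : ℕ) : (Fin h → K(p, k)) →+ (Fin h → K(p, k)) :=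
  (Isoc.stdIsoc (Isoc.frob p k a) d h).toAddMonoidHom

theorem stdF_it (d : ℤ) (h : ℕ) (i : Fin h) :
    it (stdF p k a d h) h (Pi.single i 1) = (p : K(p, k)) ^ d • Pi.single i 1 := by
  obtain ⟨n, rfl⟩ : ∃ n, h = n + 1 := ⟨h - 1, by have := i.2; omega⟩
  have h0 : it (stdF p k a d (n + 1)) (n + 1) (Pi.single 0 1) =
      (p : K(p, k)) ^ d • Pi.single 0 1 := by
    rw [it_succ_apply]
    have h1 : it (stdF p k a d (n + 1)) n (Pi.single 0 1) = Pi.single (Fin.last n) 1 :=
      stdIsoc_iter_zero p k (Isoc.frob p k a) d n n (by omega)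
    rw [h1]
    have h2 := stdIsoc_single_last p k (Isoc.frob p k a) d n 1
    rw [map_one, mul_one] at h2
    refine h2.trans ?_
    rw [← Pi.single_smul, smul_eq_mul, mul_one]
  have h2 : it (stdF p k a d (n + 1)) i.val (Pi.single 0 1) = Pi.single i 1 :=
    stdIsoc_iter_zero p k (Isoc.frob p k a) d n i.val i.2
  conv_lhs => rw [← h2]
  rw [it_comm, h0, ((sl (Isoc.stdIsoc (Isoc.frob p k a) d (n + 1))).it _).map_zpow, h2]

theorem stdLat_img (d : ℤ) (h : ℕ) :
    img (it (stdF p k a d h) h) (stdLat p k h) = pp (p : K(p, k)) d (stdLat p k h) := by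
  unfold stdLat
  rw [img_span ((sl (Isoc.stdIsoc (Isoc.frob p k a) d h)).it h), pp_span]
  congr 1
  ext x
  simp only [Set.mem_image, Set.mem_range, exists_exists_eq_and, Set.mem_smul_set]
  constructor
  · rintro ⟨i, rfl⟩
    exact ⟨i, (stdF_it p k a d h i).symm⟩
  · rintro ⟨i, rfl⟩
    exact ⟨i, stdF_it p k a d h i⟩

theorem std_isoIn (d : ℤ) {h : ℕ} (hh : 0 < h) :
    IsoIn (WittVector p k) (p : K(p, k)) (stdF p k a d h) ((d : ℚ) / h) ⊤ :=
  ⟨stdLat p k h, stdLat_latIn p k h, d, h, hh, rfl, stdLat_img p k a d h⟩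

theorem stdIsoc_bijective (d : ℤ) (h : ℕ) :
    Function.Bijective (Isoc.stdIsoc (Isoc.frob p k a) d h) := by
  have hne : ∀ i : Fin h, (if i.val = 0 then (p : K(p, k)) ^ d else 1) ≠ 0 := by
    intro i
    split_ifs
    · exact zpow_ne (WittVector p k) _ d
    · exact one_ne_zero
  constructor
  · rw [injective_iff_map_eq_zero]
    intro x hx
    ext i
    have := congrFun hx (finRotate h i)
    rw [Isoc.stdIsoc_apply, Equiv.symm_apply_apply, Pi.zero_apply] at this
    have h2 := (mul_eq_zero.1 this).resolve_left (hne _)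
    rwa [map_eq_zero] at h2
  · intro y
    obtain ⟨g, hg⟩ : ∃ g : K(p, k) → K(p, k), ∀ x, Isoc.frob p k a (g x) = x :=
      ⟨_, Function.rightInverse_surjInv (K797.Frob.frob_bijective p k a).2⟩
    refine ⟨fun i => g ((if (finRotate h i).val = 0 then (p : K(p, k)) ^ d else 1)⁻¹ *
      y (finRotate h i)), ?_⟩
    ext i
    rw [Isoc.stdIsoc_apply, hg, Equiv.apply_symm_apply, mul_inv_cancel_left₀ (hne _)]

/-- simplicity of the standard isocrystals. -/
theorem std_simple (d : ℤ) (h : ℕ) (hh : 0 < h) (hdh : Int.gcd d h = 1)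
    (P : Submodule K(p, k) (Fin h → K(p, k)))
    (hP : ∀ x ∈ P, Isoc.stdIsoc (Isoc.frob p k a) d h x ∈ P) : P = ⊥ ∨ P = ⊤ := by
  have hsl := sl (Isoc.stdIsoc (Isoc.frob p k a) d h)
  have hb : Function.Bijective (stdF p k a d h) := stdIsoc_bijective p k a d h
  have h1 : IsoIn (WittVector p k) (p : K(p, k)) (stdF p k a d h) ((d : ℚ) / h) P :=
    (std_isoIn p k a d hh).mono hsl hb.1 le_top hP
  obtain ⟨e, he⟩ := exists_oDet hsl hb.1 hP
  have h2 := h1.oDet_eq hsl hb he
  have hh0 : (h : ℚ) ≠ 0 := by positivity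
  have h3 : (h : ℤ) * e = d * Module.finrank K(p, k) P := by
    have : (h : ℚ) * e = d * Module.finrank K(p, k) P := by
      rw [h2]; field_simp
    exact_mod_cast this
  have h4 : (h : ℤ) ∣ (Module.finrank K(p, k) P : ℤ) := by
    apply Int.dvd_of_dvd_mul_right_of_gcd_one (b := d)
    · exact ⟨e, by rw [h3]⟩
    · rw [Int.gcd_comm]; exact hdh
  have h5 : h ∣ Module.finrank K(p, k) P := by exact_mod_cast h4
  have h6 : Module.finrank K(p, k) P ≤ h := by
    have := Submodule.finrank_le P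
    rwa [Module.finrank_fin_fun] at this
  rcases Nat.eq_zero_or_pos (Module.finrank K(p, k) P) with h7 | h7
  · left
    exact Submodule.finrank_eq_zero.1 h7
  · right
    apply Submodule.eq_top_of_finrank_eq
    rw [Module.finrank_fin_fun]
    exact le_antisymm h6 (Nat.le_of_dvd h7 h5)

end conc

end K797.Lat
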