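import Groth.Agent.Isoc.K797.Semi
import Mathlib.LinearAlgebra.Matrix.Determinant.Basic
import Mathlib.LinearAlgebra.Matrix.NonsingularInverse

/-!
# The order of the determinant of a good semilinear map (generic part)
-/

open scoped Pointwise

set_option linter.unusedSectionVars false

namespace K797.Lat

section Ord
variable {W L N : Type*} [CommRing W] [IsDomain W] [IsDiscreteValuationRing W] [Field L]
  [Algebra W L] [IsFractionRing W L]
  [AddCommGroup N] [Module W N] [Module L N] [IsScalarTower W L N]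
  {π : L} [hU : Un W π]

/-- `ord(c) = r`. -/
def OrdP (W : Type*) {L : Type*} [CommRing W] [Field L] [Algebra W L] (π c : L) (r : ℤ) : Prop :=
  ∃ u : Wˣ, c = π ^ r * algebraMap W L u

theorem algebraMap_unit_ne (u : Wˣ) : algebraMap W L u ≠ 0 :=
  (map_ne_zero_iff _ (IsFractionRing.injective W L)).2 u.ne_zero

theorem OrdP.ne_zero {c : L} {r : ℤ} (h : OrdP W π c r) : c ≠ 0 := by
  obtain ⟨u, rfl⟩ := h
  exact mul_ne_zero (zpow_ne W π r) (algebraMap_unit_ne u)

theorem OrdP.mul {c c' : L} {r r' : ℤ} (h : OrdP W π c r) (h' : OrdP W π c' r') :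
    OrdP W π (c * c') (r + r') := by
  obtain ⟨u, rfl⟩ := h
  obtain ⟨u', rfl⟩ := h'
  refine ⟨u * u', ?_⟩
  rw [zpow_add₀ (pi_ne W), Units.val_mul, map_mul]
  ring

theorem OrdP.inv {c : L} {r : ℤ} (h : OrdP W π c r) : OrdP W π c⁻¹ (-r) := by
  obtain ⟨u, rfl⟩ := h
  refine ⟨u⁻¹, ?_⟩
  have h1 : algebraMap W L u * algebraMap W L ((u⁻¹ : Wˣ) : W) = 1 := by
    rw [← map_mul]; simp
  have h2 := algebraMap_unit_ne (L := L) u
  have h3 := zpow_ne W π r
  rw [zpow_neg, mul_inv, inv_eq_of_mul_eq_one_right h1]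

theorem OrdP.one : OrdP W π 1 0 := ⟨1, by simp⟩

theorem OrdP.zpow_pi (r : ℤ) : OrdP W π (π ^ r) r := ⟨1, by simp⟩

theorem OrdP.unit (u : Wˣ) : OrdP W π (algebraMap W L u) 0 := ⟨u, by simp⟩

theorem exists_ordP_of_W {w : W} (hw : w ≠ 0) : ∃ n : ℕ, OrdP W π (algebraMap W L w) n := by
  obtain ⟨ϖ, h, rfl⟩ := hU.out
  obtain ⟨n, u, hu⟩ := IsDiscreteValuationRing.eq_unit_mul_pow_irreducible hw h
  exact ⟨n, u, by rw [hu, map_mul, map_pow, zpow_natCast, mul_comm]⟩

theorem exists_ordP {c : L} (hc : c ≠ 0) : ∃ r : ℤ, OrdP W π c r := by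
  obtain ⟨a, b, hb, rfl⟩ := IsFractionRing.div_surjective (A := W) c
  have hb0 : b ≠ 0 := nonZeroDivisors.ne_zero hb
  have ha0 : a ≠ 0 := by
    rintro rfl
    simp at hc
  obtain ⟨n, hn⟩ := exists_ordP_of_W (π := π) ha0
  obtain ⟨m, hm⟩ := exists_ordP_of_W (π := π) hb0
  refine ⟨n + -m, ?_⟩
  rw [div_eq_mul_inv]
  exact hn.mul hm.inv

theorem OrdP.nonneg_of_int {w : W} {r : ℤ} (h : OrdP W π (algebraMap W L w) r) : 0 ≤ r := by
  by_contra hr
  push Not at hr
  obtain ⟨u, hu⟩ := h
  obtain ⟨ϖ, hϖ, rfl⟩ := hU.out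
  obtain ⟨n, hn⟩ : ∃ n : ℕ, r = -(n + 1 : ℕ) := ⟨(-r - 1).toNat, by push_cast; omega⟩
  rw [hn, zpow_neg, zpow_natCast, ← map_pow, inv_mul_eq_div, eq_div_iff, ← map_mul] at hu
  · have h2 := IsFractionRing.injective W L hu
    apply hϖ.not_isUnit
    refine isUnit_of_dvd_unit ?_ u.isUnit
    rw [← h2]
    exact Dvd.dvd.mul_left (dvd_pow_self _ (by omega)) _
  · rw [map_pow]; exact pow_ne_zero _ (pi_ne W)

theorem OrdP.unique {c : L} {r r' : ℤ} (h : OrdP W π c r) (h' : OrdP W π c r') : r = r' := by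
  have h1 := h.mul h'.inv
  have h2 := h'.mul h.inv
  rw [mul_inv_cancel₀ h.ne_zero, ← map_one (algebraMap W L)] at h1 h2
  have := h1.nonneg_of_int
  have := h2.nonneg_of_int
  omega

theorem OrdP.map {τ : L →+* L} (hτ : Good W π τ) {c : L} {r : ℤ} (h : OrdP W π c r) :
    OrdP W π (τ c) r := by
  obtain ⟨u, rfl⟩ := h
  obtain ⟨w, hw⟩ := hτ.int u
  obtain ⟨w', hw'⟩ := hτ.int ((u⁻¹ : Wˣ) : W)
  have h1 : w * w' = 1 := by
    apply IsFractionRing.injective W L
    rw [map_mul, ← hw, ← hw', ← map_mul, ← map_mul]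
    simp
  refine ⟨Units.mkOfMulEqOne w w' h1, ?_⟩
  rw [map_mul, hτ.map_zpow, hw]; rfl

theorem OrdP.pow {c : L} {r : ℤ} (h : OrdP W π c r) (n : ℕ) : OrdP W π (c ^ n) (n * r) := by
  induction n with
  | zero => simpa using OrdP.one
  | succ n ih =>
    rw [pow_succ]
    convert ih.mul h using 1
    push_cast; ring

/-- matrix coefficients of vectors in the span. -/
theorem exists_matrix {ι κ : Type*} [Fintype ι] {b : ι → N} {v : κ → N}
    (h : ∀ j, v j ∈ Submodule.span L (Set.range b)) :
    ∃ U : Matrix ι κ L, ∀ j, v j = ∑ i, U i j • b i := by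
  choose c hc using fun j => (Submodule.mem_span_range_iff_exists_fun L).1 (h j)
  exact ⟨Matrix.of fun i j => c j i, fun j => (hc j).symm⟩

theorem exists_matrix_W {ι κ : Type*} [Fintype ι] {b : ι → N} {v : κ → N}
    (h : ∀ j, v j ∈ Submodule.span W (Set.range b)) :
    ∃ U : Matrix ι κ W, ∀ j, v j = ∑ i, algebraMap W L (U i j) • b i := by
  choose c hc using fun j => (Submodule.mem_span_range_iff_exists_fun W).1 (h j)
  exact ⟨Matrix.of fun i j => c j i, fun j => by
    rw [← hc]; simp [algebraMap_smul]⟩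

theorem matrix_unique {ι κ : Type*} [Fintype ι] {b : ι → N} (hb : LinearIndependent L b)
    {U V : Matrix ι κ L} (h : ∀ j, ∑ i, U i j • b i = ∑ i, V i j • b i) : U = V := by
  ext i j
  have := (Fintype.linearIndependent_iff.1 hb) (fun i => U i j - V i j) (by
    simp_rw [sub_smul, Finset.sum_sub_distrib, h, sub_self]) i
  exact sub_eq_zero.1 this

theorem sum_matrix_mul {ι κ ι' : Type*} [Fintype ι] [Fintype κ] {b : ι → N} {v : κ → N}
    {w : ι' → N} {U : Matrix ι κ L} {V : Matrix κ ι' L} (hU : ∀ j, v j = ∑ i, U i j • b i)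
    (hV : ∀ j, w j = ∑ i, V i j • v i) (j : ι') : w j = ∑ i, (U * V) i j • b i := by
  rw [hV]
  simp_rw [hU, Finset.smul_sum, Matrix.mul_apply, Finset.sum_smul]
  rw [Finset.sum_comm]
  refine Finset.sum_congr rfl fun i _ => Finset.sum_congr rfl fun l _ => ?_
  rw [smul_smul, mul_comm]

theorem map_matrix {ι κ : Type*} [Fintype ι] {f : N →+ N} {τ : L →+* L}
    (hf : ∀ (c : L) (x : N), f (c • x) = τ c • f x) {b : ι → N} {v : κ → N} {U : Matrix ι κ L}
    (hU : ∀ j, v j = ∑ i, U i j • b i) (j : κ) :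
    f (v j) = ∑ i, (U.map τ) i j • f (b i) := by
  rw [hU, map_sum]
  refine Finset.sum_congr rfl fun i _ => ?_
  rw [hf]; rfl

/-- two bases of the same space: invertible base change matrix. -/
theorem exists_baseChange {ι : Type*} [Fintype ι] [DecidableEq ι] {b b' : ι → N}
    (hb : LinearIndependent L b) (_hb' : LinearIndependent L b')
    (h : Submodule.span L (Set.range b) = Submodule.span L (Set.range b')) :
    ∃ U : Matrix ι ι L, (∀ j, b' j = ∑ i, U i j • b i) ∧ U.det ≠ 0 := by
  obtain ⟨U, hU⟩ := exists_matrix (L := L) (b := b) (v := b') (fun j => by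
    rw [h]; exact Submodule.subset_span ⟨j, rfl⟩)
  obtain ⟨V, hV⟩ := exists_matrix (L := L) (b := b') (v := b) (fun j => by
    rw [← h]; exact Submodule.subset_span ⟨j, rfl⟩)
  refine ⟨U, hU, ?_⟩
  have : U * V = 1 := by
    apply matrix_unique hb
    intro j
    rw [← sum_matrix_mul hU hV j]
    simp [Matrix.one_apply]
  intro h0
  have h1 := congrArg Matrix.det this
  rw [Matrix.det_mul, h0, zero_mul, Matrix.det_one] at h1
  exact zero_ne_one h1

/-- `orddet(f | P) = d`. -/
def ODet (W : Type*) {L N : Type*} [CommRing W] [Field L] [Algebra W L]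
    [AddCommGroup N] [Module L N] (π : L) (f : N →+ N) (P : Submodule L N) (d : ℤ) : Prop :=
  ∃ (n : ℕ) (b : Fin n → N) (A : Matrix (Fin n) (Fin n) L), LinearIndependent L b ∧
    Submodule.span L (Set.range b) = P ∧ (∀ j, f (b j) = ∑ i, A i j • b i) ∧ OrdP W π A.det d

variable {f g : N →+ N}

theorem ODet.intro {ι : Type*} [Fintype ι] [DecidableEq ι] {P : Submodule L N} {d : ℤ}
    (b : ι → N) (A : Matrix ι ι L) (hb : LinearIndependent L b)
    (hs : Submodule.span L (Set.range b) = P) (hA : ∀ j, f (b j) = ∑ i, A i j • b i)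
    (hd : OrdP W π A.det d) : ODet W π f P d := by
  let e := (Fintype.equivFin ι).symm
  refine ⟨Fintype.card ι, b ∘ e, A.submatrix e e, hb.comp e e.injective, ?_, ?_, ?_⟩
  · rw [e.surjective.range_comp, hs]
  · intro j
    rw [Function.comp_apply, hA]
    exact (Equiv.sum_comp e (fun i => A i (e j) • b i)).symm
  · rwa [Matrix.det_submatrix_equiv_self]

theorem ODet.unique (hf : SL W π f) {P : Submodule L N} {d d' : ℤ} (h : ODet W π f P d)
    (h' : ODet W π f P d') : d = d' := by
  obtain ⟨τ, hτ, hfτ⟩ := hf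
  obtain ⟨n, b, A, hb, hs, hA, hd⟩ := h
  obtain ⟨n', b', A', hb', hs', hA', hd'⟩ := h'
  have h1 := finrank_span_eq_card hb
  have h2 := finrank_span_eq_card hb'
  rw [hs, Fintype.card_fin] at h1
  rw [hs', Fintype.card_fin] at h2
  obtain rfl : n = n' := h1.symm.trans h2
  obtain ⟨U, hU, hU0⟩ := exists_baseChange hb hb' (hs.trans hs'.symm)
  obtain ⟨u, hu⟩ := exists_ordP (W := W) (π := π) hU0
  have key : A * U.map τ = U * A' := by
    apply matrix_unique hb
    intro j
    rw [← sum_matrix_mul hU hA' j, map_matrix hfτ hU j]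
    exact (sum_matrix_mul hA (fun j => rfl) j).symm
  have hdet := congrArg Matrix.det key
  rw [Matrix.det_mul, Matrix.det_mul] at hdet
  have hmap : (U.map τ).det = τ U.det := by
    rw [← RingHom.mapMatrix_apply, ← RingHom.map_det]
  rw [hmap] at hdet
  have e1 := hd.mul (hu.map hτ)
  rw [hdet] at e1
  have e2 := hu.mul hd'
  have := e1.unique e2
  omega

theorem ODet.id (P : Submodule L N) [FiniteDimensional L P] :
    ODet W π (AddMonoidHom.id N) P 0 := by
  let b := Module.finBasis L P
  refine ODet.intro (fun i => ((b i : P) : N)) 1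
    (b.linearIndependent.map' P.subtype (Submodule.ker_subtype P)) ?_ ?_ ?_
  · have := congrArg (Submodule.map P.subtype) b.span_eq
    rw [Submodule.map_span, ← Set.range_comp, Submodule.map_top, Submodule.range_subtype] at this
    exact this
  · intro j; simp [Matrix.one_apply]
  · rw [Matrix.det_one]; exact OrdP.one

theorem ODet.finite {P : Submodule L N} {d : ℤ} (h : ODet W π f P d) : FiniteDimensional L P := by
  obtain ⟨n, b, A, hb, hs, hA, hd⟩ := h
  rw [← hs]
  exact FiniteDimensional.span_of_finite L (Set.finite_range b)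

/-- multiplicativity. -/
theorem ODet.comp (hf : SL W π f) (hg : SL W π g) {P : Submodule L N} {d e : ℤ}
    (h : ODet W π f P d) (h' : ODet W π g P e) : ODet W π (f.comp g) P (d + e) := by
  obtain ⟨τ, hτ, hfτ⟩ := hf
  obtain ⟨σ, hσ, hgσ⟩ := hg
  obtain ⟨n, b, A, hb, hs, hA, hd⟩ := h
  have h'' := h'
  obtain ⟨n', b', A', hb', hs', hA', hd'⟩ := h'
  -- matrix of `g` in the basis `b`
  obtain ⟨B, hB⟩ := exists_matrix (L := L) (b := b) (v := fun j => g (b j)) (fun j => by
    rw [hs]
    have hbj : b j ∈ P := hs ▸ Submodule.subset_span ⟨j, rfl⟩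
    have : ∀ x ∈ P, g x ∈ P := by
      intro x hx
      rw [← hs'] at hx
      induction hx using Submodule.span_induction with
      | mem x hx =>
        obtain ⟨i, rfl⟩ := hx
        rw [hA' i, ← hs']
        exact Submodule.sum_mem _ fun l _ => Submodule.smul_mem _ _
          (Submodule.subset_span ⟨l, rfl⟩)
      | zero => rw [map_zero]; exact P.zero_mem
      | add x y _ _ hx hy => rw [map_add]; exact P.add_mem hx hy
      | smul c x _ hx => rw [hgσ]; exact P.smul_mem _ hx
    exact this _ hbj)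
  have hB0 : ∃ e', OrdP W π B.det e' := by
    apply exists_ordP
    have h1 := finrank_span_eq_card hb
    have h2 := finrank_span_eq_card hb'
    rw [hs, Fintype.card_fin] at h1
    rw [hs', Fintype.card_fin] at h2
    obtain rfl : n = n' := h1.symm.trans h2
    obtain ⟨U, hU, hU0⟩ := exists_baseChange hb hb' (hs.trans hs'.symm)
    have key : B * U.map σ = U * A' := by
      apply matrix_unique hb
      intro j
      rw [← sum_matrix_mul hU hA' j, map_matrix hgσ hU j]
      exact (sum_matrix_mul hB (fun j => rfl) j).symm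
    have hdet := congrArg Matrix.det key
    rw [Matrix.det_mul, Matrix.det_mul] at hdet
    intro h0
    rw [h0, zero_mul] at hdet
    exact (mul_ne_zero hU0 hd'.ne_zero) hdet.symm
  obtain ⟨e', he'⟩ := hB0
  have hee : e' = e := ODet.unique ⟨σ, hσ, hgσ⟩ ⟨n, b, B, hb, hs, hB, he'⟩ h''
  subst hee
  refine ⟨n, b, A * B.map τ, hb, hs, ?_, ?_⟩
  · intro j
    rw [AddMonoidHom.comp_apply, map_matrix hfτ hB j]
    exact sum_matrix_mul hA (fun j => rfl) j
  · have hmap : (B.map τ).det = τ B.det := by
      rw [← RingHom.mapMatrix_apply, ← RingHom.map_det]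
    rw [Matrix.det_mul, hmap]
    exact hd.mul (he'.map hτ)

theorem ODet.it (hf : SL W π f) {P : Submodule L N} {d : ℤ}
    (h : ODet W π f P d) (n : ℕ) : ODet W π (it f n) P (n * d) := by
  induction n with
  | zero =>
    have := h.finite
    rw [it_zero, Nat.cast_zero, zero_mul]
    exact ODet.id P
  | succ n ih =>
    rw [it_succ]
    convert ODet.comp hf (hf.it n) h ih using 1
    push_cast; ring

theorem ODet.smulMap {P : Submodule L N} {d r : ℤ} {c : L} (hc : OrdP W π c r)
    (h : ODet W π f P d) : ODet W π (smulMap c f) P (Module.finrank L P * r + d) := by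
  obtain ⟨n, b, A, hb, hs, hA, hd⟩ := h
  have h1 := finrank_span_eq_card hb
  rw [hs, Fintype.card_fin] at h1
  refine ⟨n, b, c • A, hb, hs, ?_, ?_⟩
  · intro j
    rw [smulMap_apply, hA, Finset.smul_sum]
    refine Finset.sum_congr rfl fun i _ => ?_
    rw [smul_smul]; rfl
  · rw [Matrix.det_smul, Fintype.card_fin, h1]
    exact (hc.pow n).mul hd

/-- `f` maps a lattice of `P` into itself: the order of the determinant is nonnegative. -/
theorem ODet.nonneg (hf : SL W π f) {P : Submodule L N} {d : ℤ} (h : ODet W π f P d)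
    {M : Submodule W N} (hM : LatIn P M) (hfM : img f M ≤ M) : 0 ≤ d := by
  obtain ⟨b, hb, hs, hs'⟩ := hM.exists_basis
  obtain ⟨A, hA⟩ := exists_matrix_W (W := W) (L := L) (b := b) (v := fun j => f (b j))
    (fun j => by
      rw [hs]; exact hfM (apply_mem_img (hs ▸ Submodule.subset_span ⟨j, rfl⟩)))
  have hdet : (A.map (algebraMap W L)).det = algebraMap W L A.det := by
    rw [← RingHom.mapMatrix_apply, ← RingHom.map_det]
  obtain ⟨n', b', A', hb', hs'', hA', hd'⟩ := h
  -- the determinant in the lattice basis has the same order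
  have h1 : Module.finrank L P = n' := by
    have := finrank_span_eq_card hb'
    rwa [hs'', Fintype.card_fin] at this
  have h0 : (A.map (algebraMap W L)).det ≠ 0 := by
    obtain ⟨τ, hτ, hfτ⟩ := hf
    subst h1
    obtain ⟨U, hU, hU0⟩ := exists_baseChange hb hb' (hs'.trans hs''.symm)
    have key : A.map (algebraMap W L) * U.map τ = U * A' := by
      apply matrix_unique hb
      intro j
      rw [← sum_matrix_mul hU hA' j, map_matrix hfτ hU j]
      exact (sum_matrix_mul hA (fun j => rfl) j).symm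
    have hdet := congrArg Matrix.det key
    rw [Matrix.det_mul, Matrix.det_mul] at hdet
    intro h0
    rw [h0, zero_mul] at hdet
    exact (mul_ne_zero hU0 hd'.ne_zero) hdet.symm
  rw [hdet] at h0
  obtain ⟨m, hm⟩ := exists_ordP_of_W (π := π) (W := W) (w := A.det)
    (fun h => h0 (by rw [h, map_zero]))
  have : (m : ℤ) = d := ODet.unique hf (ODet.intro b (A.map (algebraMap W L)) hb hs' hA
    (by rw [hdet]; exact hm)) ⟨n', b', A', hb', hs'', hA', hd'⟩
  omega

theorem ODet.le_of_img_le (hf : SL W π f) {P : Submodule L N} {d r : ℤ} (h : ODet W π f P d)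
    {M : Submodule W N} (hM : LatIn P M) (hfM : img f M ≤ pp π r M) :
    r * Module.finrank L P ≤ d := by
  have h1 := h.smulMap (OrdP.zpow_pi (W := W) (π := π) (-r))
  have h2 := ODet.nonneg (hf.smulMap _) h1 hM (by
    rw [img_smulMap hf, pp_le_iff, neg_neg]; exact hfM)
  linarith

theorem exists_oDet (hf : SL W π f) (hi : Function.Injective f) {P : Submodule L N}
    [FiniteDimensional L P] (hP : ∀ x ∈ P, f x ∈ P) : ∃ d, ODet W π f P d := by
  let b := Module.finBasis L P
  have hb : LinearIndependent L (fun i => ((b i : P) : N)) :=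
    b.linearIndependent.map' P.subtype (Submodule.ker_subtype P)
  have hs : Submodule.span L (Set.range fun i => ((b i : P) : N)) = P := by
    have := congrArg (Submodule.map P.subtype) b.span_eq
    rw [Submodule.map_span, ← Set.range_comp, Submodule.map_top, Submodule.range_subtype] at this
    exact this
  obtain ⟨A, hA⟩ := exists_matrix (L := L) (b := fun i => ((b i : P) : N))
    (v := fun j => f ((b j : P) : N)) (fun j => by rw [hs]; exact hP _ (b j).2)
  have h0 : A.det ≠ 0 := by
    obtain ⟨τ, hτ, hfτ⟩ := hf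
    have hli : LinearIndependent L (f ∘ fun i => ((b i : P) : N)) :=
      hb.map_of_surjective_injective τ f hτ.bij.2 ((injective_iff_map_eq_zero f).1 hi) hfτ
    have hle : Submodule.span L (Set.range (f ∘ fun i => ((b i : P) : N))) ≤ P := by
      rw [Submodule.span_le]
      rintro _ ⟨i, rfl⟩
      exact hP _ (b i).2
    have heq : Submodule.span L (Set.range (f ∘ fun i => ((b i : P) : N))) = P := by
      apply Submodule.eq_of_le_of_finrank_eq hle
      rw [finrank_span_eq_card hli, Fintype.card_fin]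
    obtain ⟨V, hV⟩ := exists_matrix (L := L) (b := f ∘ fun i => ((b i : P) : N))
      (v := fun j => ((b j : P) : N)) (fun j => by rw [heq]; exact (b j).2)
    have h1 : A * V = 1 := by
      apply matrix_unique hb
      intro j
      rw [← sum_matrix_mul (v := f ∘ fun i => ((b i : P) : N)) hA hV j]
      simp [Matrix.one_apply]
    intro h0
    have h2 := congrArg Matrix.det h1
    rw [Matrix.det_mul, h0, zero_mul, Matrix.det_one] at h2
    exact zero_ne_one h2
  obtain ⟨d, hd⟩ := exists_ordP (W := W) (π := π) h0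
  exact ⟨d, ODet.intro _ A hb hs hA hd⟩

/-- `f M = π^r M` for a lattice `M` of `P`: the order of the determinant is `r dim P`. -/
theorem ODet.eq_of_img_eq (hf : SL W π f) (hbij : Function.Bijective f) {P : Submodule L N}
    {d r : ℤ} (h : ODet W π f P d)
    {M : Submodule W N} (hM : LatIn P M) (hfM : img f M = pp π r M) :
    d = r * Module.finrank L P := by
  have hfin := hM.finite
  have h1 := h.le_of_img_le hf hM hfM.le
  -- the inverse map
  obtain ⟨g, hg, hgf, hfg⟩ := hf.exists_inv hbij
  have hgM : img g M = pp π (-r) M := by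
    have h2 : img g (pp π r M) = M := by
      rw [← hfM, ← img_comp hg hf]
      have : g.comp f = AddMonoidHom.id N := by ext x; exact hgf x
      rw [this, img_id]
    rw [img_pp hg] at h2
    have h3 := congrArg (pp π (-r)) h2
    rwa [pp_pp, neg_add_cancel, pp_zero] at h3
  have hgP : ∀ x ∈ P, g x ∈ P := by
    intro x hx
    rw [← hM.span] at hx
    have : g x ∈ Submodule.span L (img g M : Set N) := (mem_span_img hg).2 ⟨x, hx, rfl⟩
    rw [hgM, span_pp, hM.span] at this
    exact this
  have hgi : Function.Injective g := by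
    intro x y hxy
    rw [← hfg x, hxy, hfg]
  obtain ⟨e, he⟩ := exists_oDet hg hgi hgP
  have h4 := he.le_of_img_le hg hM hgM.le
  have h5 := ODet.comp hg hf he h
  have : g.comp f = AddMonoidHom.id N := by ext x; exact hgf x
  rw [this] at h5
  have h6 := h5.unique SL.id (ODet.id P)
  have : e = -d := by omega
  subst this
  linarith

theorem ODet.sup {P Q : Submodule L N} {d e : ℤ} (hPQ : Disjoint P Q)
    (h : ODet W π f P d) (h' : ODet W π f Q e) : ODet W π f (P ⊔ Q) (d + e) := by
  obtain ⟨n, b, A, hb, hs, hA, hd⟩ := h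
  obtain ⟨m, c, B, hc, hs', hB, he⟩ := h'
  refine ODet.intro (Sum.elim b c) (Matrix.fromBlocks A 0 0 B) ?_ ?_ ?_ ?_
  · exact hb.sum_type hc (by rw [hs, hs']; exact hPQ)
  · rw [Set.Sum.elim_range, Submodule.span_union, hs, hs']
  · rintro (j | j)
    · simp [Fintype.sum_sum_type, hA]
    · simp [Fintype.sum_sum_type, hB]
  · rw [Matrix.det_fromBlocks_zero₂₁]
    exact hd.mul he

end Ord

end K797.Lat
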