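import Mathlib.Algebra.Module.Lattice
import Mathlib.Algebra.Module.Submodule.Pointwise
import Mathlib.RingTheory.DiscreteValuationRing.Basic
import Mathlib.RingTheory.AdicCompletion.Basic
import Mathlib.RingTheory.AdicCompletion.Noetherian
import Mathlib.RingTheory.Length
import Mathlib.RingTheory.Localization.FractionRing

/-!
# Lattices over a discrete valuation ring and good semilinear maps (generic part)

`W` a discrete valuation ring with fraction field `L`, `π : L` the image of a uniformiser,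
`N` an `L`-vector space which is compatibly a `W`-module.
-/

open scoped Pointwise

set_option linter.unusedSectionVars false

namespace K797.Lat

/-- `π ∈ L` is the image of a uniformiser of `W`. -/
class Un (W : Type*) {L : Type*} [CommRing W] [Field L] [Algebra W L] (π : L) : Prop where
  out : ∃ ϖ : W, Irreducible ϖ ∧ algebraMap W L ϖ = π

section Defs
variable {W L N : Type*} [CommRing W] [Field L] [Algebra W L]
  [AddCommGroup N] [Module W N] [Module L N] [IsScalarTower W L N]

/-- `π^r M`. -/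
def pp (π : L) (r : ℤ) (M : Submodule W N) : Submodule W N := (π ^ r) • M

/-- span of the image. -/
def img (f : N →+ N) (M : Submodule W N) : Submodule W N := Submodule.span W (f '' (M : Set N))

/-- a good twist. -/
structure Good (W : Type*) {L : Type*} [CommRing W] [Field L] [Algebra W L] (π : L)
    (τ : L →+* L) : Prop where
  bij : Function.Bijective τ
  fix : τ π = π
  int : ∀ w : W, ∃ w' : W, τ (algebraMap W L w) = algebraMap W L w'
  int' : ∀ w' : W, ∃ w : W, τ (algebraMap W L w) = algebraMap W L w'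

/-- a good semilinear map, with its twist hidden. -/
def SL (W : Type*) {L N : Type*} [CommRing W] [Field L] [Algebra W L]
    [AddCommGroup N] [Module L N] (π : L) (f : N →+ N) : Prop :=
  ∃ τ : L →+* L, Good W π τ ∧ ∀ (c : L) (x : N), f (c • x) = τ c • f x

end Defs

section Basic
variable {W L N : Type*} [CommRing W] [IsDomain W] [IsDiscreteValuationRing W] [Field L]
  [Algebra W L] [IsFractionRing W L]
  [AddCommGroup N] [Module W N] [Module L N] [IsScalarTower W L N]
  {π : L} [hU : Un W π]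

include hU in
variable (W) in
theorem pi_ne : π ≠ 0 := by
  obtain ⟨ϖ, h, rfl⟩ := hU.out
  exact (map_ne_zero_iff _ (IsFractionRing.injective W L)).2 h.ne_zero

theorem zpow_ne (W : Type*) [CommRing W] [IsDomain W] [IsDiscreteValuationRing W]
    [Algebra W L] [IsFractionRing W L] (π : L) [hU : Un W π] (r : ℤ) : π ^ r ≠ 0 :=
  zpow_ne_zero _ (pi_ne W)

theorem mem_pp {r : ℤ} {M : Submodule W N} {x : N} :
    x ∈ pp π r M ↔ (π ^ (-r)) • x ∈ M := by
  unfold pp
  rw [Submodule.mem_smul_pointwise_iff_exists]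
  constructor
  · rintro ⟨y, hy, rfl⟩
    rwa [smul_smul, zpow_neg, inv_mul_cancel₀ (zpow_ne W π r), one_smul]
  · intro h
    refine ⟨_, h, ?_⟩
    rw [smul_smul, zpow_neg, mul_inv_cancel₀ (zpow_ne W π r), one_smul]

theorem smul_mem_pp {r : ℤ} {M : Submodule W N} {x : N} (hx : x ∈ M) : π ^ r • x ∈ pp π r M := by
  rw [mem_pp, smul_smul, zpow_neg, inv_mul_cancel₀ (zpow_ne W π r), one_smul]
  exact hx

theorem exists_of_mem_pp {r : ℤ} {M : Submodule W N} {x : N} (hx : x ∈ pp π r M) :
    ∃ y ∈ M, x = π ^ r • y :=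
  ⟨_, mem_pp.1 hx, by
    rw [smul_smul, zpow_neg, mul_inv_cancel₀ (zpow_ne W π r), one_smul]⟩

variable (π) in
theorem pp_zero (M : Submodule W N) : pp π 0 M = M := by
  ext x; simp [pp]

theorem pp_pp (r s : ℤ) (M : Submodule W N) : pp π r (pp π s M) = pp π (r + s) M := by
  ext x
  rw [mem_pp, mem_pp, mem_pp, smul_smul, ← zpow_add₀ (pi_ne W)]
  congr! 3; ring

theorem pp_mono {r : ℤ} {M M' : Submodule W N} (h : M ≤ M') : pp π r M ≤ pp π r M' := by
  intro x hx
  rw [mem_pp] at hx ⊢
  exact h hx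

theorem pp_le_iff {r : ℤ} {M M' : Submodule W N} : pp π r M ≤ M' ↔ M ≤ pp π (-r) M' := by
  constructor
  · intro h
    have := pp_mono (π := π) (r := -r) h
    rwa [pp_pp, neg_add_cancel, pp_zero] at this
  · intro h
    have := pp_mono (π := π) (r := r) h
    rwa [pp_pp, add_neg_cancel, pp_zero] at this

theorem pp_le_pp_iff {r : ℤ} {M M' : Submodule W N} : pp π r M ≤ pp π r M' ↔ M ≤ M' := by
  rw [pp_le_iff, pp_pp, neg_add_cancel, pp_zero]

theorem pp_inj {r : ℤ} {M M' : Submodule W N} : pp π r M = pp π r M' ↔ M = M' := by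
  rw [le_antisymm_iff, pp_le_pp_iff, pp_le_pp_iff, ← le_antisymm_iff]

theorem smul_mem_nat {M : Submodule W N} {x : N} (hx : x ∈ M) (n : ℕ) : π ^ n • x ∈ M := by
  obtain ⟨ϖ, h, rfl⟩ := hU.out
  rw [← map_pow, algebraMap_smul]
  exact M.smul_mem _ hx

variable (π) in
theorem pp_anti {r s : ℤ} (h : r ≤ s) (M : Submodule W N) : pp π s M ≤ pp π r M := by
  intro x hx
  rw [mem_pp] at hx ⊢
  obtain ⟨n, rfl⟩ := Int.exists_add_of_le h
  have := smul_mem_nat (π := π) hx n
  rw [smul_smul, ← zpow_natCast, ← zpow_add₀ (pi_ne W)] at this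
  convert this using 2
  congr 1; ring

variable (π) in
theorem pp_le_self (n : ℕ) (M : Submodule W N) : pp π n M ≤ M := by
  conv_rhs => rw [← pp_zero π M]
  exact pp_anti π (by positivity) M

theorem pp_sup (r : ℤ) (M M' : Submodule W N) : pp π r (M ⊔ M') = pp π r M ⊔ pp π r M' := by
  apply le_antisymm
  · rw [pp_le_iff]
    apply sup_le
    · rw [← pp_le_iff]; exact le_sup_left
    · rw [← pp_le_iff]; exact le_sup_right
  · exact sup_le (pp_mono le_sup_left) (pp_mono le_sup_right)

theorem pp_inf (r : ℤ) (M M' : Submodule W N) : pp π r (M ⊓ M') = pp π r M ⊓ pp π r M' := by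
  ext x
  simp [mem_pp]

theorem pp_iSup {ι : Sort*} (r : ℤ) (M : ι → Submodule W N) :
    pp π r (⨆ i, M i) = ⨆ i, pp π r (M i) := by
  apply le_antisymm
  · rw [pp_le_iff]
    refine iSup_le fun i => ?_
    rw [← pp_le_iff]; exact le_iSup (fun i => pp π r (M i)) i
  · exact iSup_le fun i => pp_mono (le_iSup _ i)

theorem pp_span (r : ℤ) (s : Set N) :
    pp π r (Submodule.span W s) = Submodule.span W ((π ^ r) • s) := by
  unfold pp
  rw [Submodule.smul_span]

theorem pp_fg {r : ℤ} {M : Submodule W N} (h : M.FG) : (pp π r M).FG := by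
  obtain ⟨s, rfl⟩ := h
  rw [pp_span]
  exact Submodule.fg_span (Set.Finite.smul_set s.finite_toSet)

theorem span_pp (r : ℤ) (M : Submodule W N) :
    Submodule.span L (pp π r M : Set N) = Submodule.span L (M : Set N) := by
  apply le_antisymm
  · rw [Submodule.span_le]
    intro x hx
    obtain ⟨y, hy, rfl⟩ := exists_of_mem_pp hx
    exact Submodule.smul_mem _ _ (Submodule.subset_span hy)
  · rw [Submodule.span_le]
    intro x hx
    have : x = π ^ (-r) • (π ^ r • x) := by
      rw [smul_smul, zpow_neg, inv_mul_cancel₀ (zpow_ne W π r), one_smul]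
    rw [this]
    exact Submodule.smul_mem _ _ (Submodule.subset_span (smul_mem_pp hx))

theorem pp_isLattice {r : ℤ} {M : Submodule W N} (h : M.IsLattice L) : (pp π r M).IsLattice L :=
  ⟨pp_fg h.fg, by rw [span_pp]; exact h.span_eq_top⟩

/-- every element of the fraction field is `w / ϖ^n`. -/
theorem exists_pow_mul (c : L) : ∃ n : ℕ, ∃ w : W, π ^ n * c = algebraMap W L w := by
  obtain ⟨ϖ, h, rfl⟩ := hU.out
  obtain ⟨a, b, hb, rfl⟩ := IsFractionRing.div_surjective (A := W) c
  have hb0 : b ≠ 0 := nonZeroDivisors.ne_zero hb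
  obtain ⟨n, u, hu⟩ := IsDiscreteValuationRing.eq_unit_mul_pow_irreducible hb0 h
  refine ⟨n, u⁻¹ * a, ?_⟩
  have hb1 : algebraMap W L b ≠ 0 := (map_ne_zero_iff _ (IsFractionRing.injective W L)).2 hb0
  rw [mul_div_assoc', div_eq_iff hb1, hu, map_mul, map_mul, ← map_pow]
  have : algebraMap W L ↑u⁻¹ * algebraMap W L u = 1 := by
    rw [← map_mul]; simp
  linear_combination (-(algebraMap W L (ϖ ^ n)) * (algebraMap W L a)) * this

variable (π) in
/-- a vector in the `L`-span of `M` is in `π^(-n) M` for large `n`. -/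
theorem exists_mem_pp_of_mem_span {M : Submodule W N} {x : N}
    (hx : x ∈ Submodule.span L (M : Set N)) : ∃ n : ℕ, x ∈ pp π (-(n : ℤ)) M := by
  induction hx using Submodule.span_induction with
  | mem x hx => exact ⟨0, by simpa [pp_zero] using hx⟩
  | zero => exact ⟨0, Submodule.zero_mem _⟩
  | add x y _ _ hx hy =>
    obtain ⟨n, hn⟩ := hx
    obtain ⟨m, hm⟩ := hy
    refine ⟨n + m, Submodule.add_mem _ (pp_anti π ?_ M hn) (pp_anti π ?_ M hm)⟩ <;>
    · push_cast; omega
  | smul c x _ hx =>
    obtain ⟨n, hn⟩ := hx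
    obtain ⟨m, w, hw⟩ := exists_pow_mul (W := W) (π := π) c
    refine ⟨n + m, ?_⟩
    rw [mem_pp] at hn ⊢
    rw [neg_neg] at hn ⊢
    have h2 : π ^ (((n + m : ℕ) : ℤ)) • c • x = w • (π ^ (n : ℤ) • x) := by
      rw [← algebraMap_smul L w, ← hw, smul_smul, smul_smul]
      congr 1
      rw [Nat.cast_add, zpow_add₀ (pi_ne W), zpow_natCast, zpow_natCast]
      ring
    rw [h2]
    exact M.smul_mem _ hn

variable (π) in
theorem exists_mem_pp {M : Submodule W N} (hM : M.IsLattice L) (x : N) :
    ∃ n : ℕ, x ∈ pp π (-(n : ℤ)) M :=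
  exists_mem_pp_of_mem_span π (by rw [hM.span_eq_top]; trivial)

variable (π) in
/-- a finitely generated submodule inside the span of `M` is inside `π^(-n) M`. -/
theorem exists_le_pp_of_le_span {M M' : Submodule W N}
    (h' : M'.FG) (h : (M' : Set N) ⊆ Submodule.span L (M : Set N)) :
    ∃ n : ℕ, M' ≤ pp π (-(n : ℤ)) M := by
  classical
  obtain ⟨s, rfl⟩ := h'
  have hs : ∀ x ∈ s, ∃ n : ℕ, x ∈ pp π (-(n : ℤ)) M := fun x hx =>
    exists_mem_pp_of_mem_span π (h (Submodule.subset_span hx))
  clear h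
  induction s using Finset.induction_on with
  | empty => exact ⟨0, by simp⟩
  | insert a s _ ih =>
    obtain ⟨n, hn⟩ := hs a (Finset.mem_insert_self _ _)
    obtain ⟨m, hm⟩ := ih (fun x hx => hs x (Finset.mem_insert_of_mem hx))
    refine ⟨n + m, ?_⟩
    rw [Submodule.span_le] at hm ⊢
    intro x hx
    rw [Finset.coe_insert, Set.mem_insert_iff] at hx
    rcases hx with rfl | hx
    · exact pp_anti π (by push_cast; omega) M hn
    · exact pp_anti π (by push_cast; omega) M (hm hx)

variable (π) in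
theorem exists_le_pp {M M' : Submodule W N} (hM : M.IsLattice L) (h' : M'.FG) :
    ∃ n : ℕ, M' ≤ pp π (-(n : ℤ)) M :=
  exists_le_pp_of_le_span π h' (by rw [hM.span_eq_top]; exact fun _ _ => trivial)

variable (π) in
theorem exists_pp_le {M M' : Submodule W N} (hM : M.IsLattice L) (h' : M'.FG) :
    ∃ n : ℕ, pp π n M' ≤ M := by
  obtain ⟨n, hn⟩ := exists_le_pp π hM h'
  exact ⟨n, pp_le_iff.2 hn⟩

/-- Hausdorff: an element in all `π^n M`, `M` finitely generated, is zero. -/
theorem eq_zero_of_forall_mem {M : Submodule W N} (hM : M.FG) {x : N}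
    (hx : ∀ n : ℕ, x ∈ pp π n M) : x = 0 := by
  obtain ⟨ϖ, h, hϖ⟩ := hU.out
  have hxM : x ∈ M := by simpa [pp_zero] using hx 0
  have : Module.Finite W M := Module.Finite.iff_fg.2 hM
  have hH : IsHausdorff (IsLocalRing.maximalIdeal W) M := inferInstance
  have := hH.haus (⟨x, hxM⟩ : M) (fun n => ?_)
  · exact congrArg Subtype.val this
  · rw [SModEq.zero, h.maximalIdeal_eq, Ideal.span_singleton_pow]
    obtain ⟨y, hy, hxy⟩ := exists_of_mem_pp (hx n)
    have h2 : (⟨x, hxM⟩ : M) = ϖ ^ n • (⟨y, hy⟩ : M) := by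
      apply Subtype.ext
      rw [Submodule.coe_smul]
      change x = _
      rw [hxy, zpow_natCast, ← hϖ, ← map_pow, algebraMap_smul]
    rw [h2]
    exact Submodule.smul_mem_smul (Ideal.mem_span_singleton_self _) trivial

/-- a non-zero finitely generated `M` is not contained in `π M`. -/
theorem not_le_pp_one {M : Submodule W N} (hM : M.FG) (h0 : M ≠ ⊥) : ¬ M ≤ pp π 1 M := by
  intro h
  apply h0
  rw [eq_bot_iff]
  intro x hx
  have key : ∀ n : ℕ, M ≤ pp π n M := by
    intro n
    induction n with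
    | zero => simp [pp_zero]
    | succ n ih =>
      refine h.trans ?_
      have := pp_mono (π := π) (r := 1) ih
      rw [pp_pp] at this
      push_cast
      rwa [add_comm]
  exact eq_zero_of_forall_mem (π := π) hM (fun n => key n hx)

/-- `π`-adic limits exist in finitely generated submodules, if `W` is complete. -/
theorem exists_limit {ϖ : W} (hϖ : algebraMap W L ϖ = π)
    [IsPrecomplete (Ideal.span {ϖ}) W] {M : Submodule W N} (hM : M.FG) (x : ℕ → N)
    (hx : ∀ n : ℕ, x (n + 1) - x n ∈ pp π n M) : ∃ l : N, ∀ n : ℕ, l - x n ∈ pp π n M := by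
  classical
  obtain ⟨s, rfl⟩ := hM
  -- coefficients
  have h1 : ∀ n : ℕ, ∃ c : s → W, x (n + 1) - x n = ∑ i : s, (ϖ ^ n * c i) • (i : N) := by
    intro n
    obtain ⟨y, hy, hxy⟩ := exists_of_mem_pp (hx n)
    have hs : (s : Set N) = Set.range (fun i : s => (i : N)) := by
      ext z; simp
    rw [hs] at hy
    obtain ⟨c, hc⟩ := (Submodule.mem_span_range_iff_exists_fun W).1 hy
    refine ⟨c, ?_⟩
    rw [hxy, ← hc, Finset.smul_sum]
    refine Finset.sum_congr rfl fun i _ => ?_
    rw [mul_smul, zpow_natCast, ← hϖ, ← map_pow, algebraMap_smul]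
  choose c hc using h1
  -- limits of coefficients
  have h2 : ∀ i : s, ∃ l : W, ∀ n, ∃ d : W, l - ∑ j ∈ Finset.range n, ϖ ^ j * c j i = ϖ ^ n * d := by
    intro i
    have hpre : IsPrecomplete (Ideal.span {ϖ}) W := inferInstance
    obtain ⟨l, hl⟩ := hpre.prec (f := fun n => ∑ j ∈ Finset.range n, ϖ ^ j * c j i) (by
      intro m n hmn
      rw [SModEq.sub_mem, ← Finset.sum_range_add_sum_Ico _ hmn, sub_add_cancel_left, smul_eq_mul,
        Ideal.mul_top, Ideal.span_singleton_pow, neg_mem_iff]
      refine Ideal.sum_mem _ fun j hj => ?_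
      rw [Ideal.mem_span_singleton]
      exact Dvd.dvd.mul_right (pow_dvd_pow _ (Finset.mem_Ico.1 hj).1) _)
    refine ⟨l, fun n => ?_⟩
    have := hl n
    rw [SModEq.comm, SModEq.sub_mem, smul_eq_mul, Ideal.mul_top, Ideal.span_singleton_pow,
      Ideal.mem_span_singleton] at this
    exact this
  choose l hl using h2
  choose d hd using hl
  refine ⟨x 0 + ∑ i : s, l i • (i : N), fun n => ?_⟩
  have h3 : x n = x 0 + ∑ i : s, (∑ j ∈ Finset.range n, ϖ ^ j * c j i) • (i : N) := by
    induction n with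
    | zero => simp
    | succ n ih =>
      have := hc n
      rw [sub_eq_iff_eq_add] at this
      rw [this, ih]
      simp_rw [Finset.sum_range_succ, add_smul, Finset.sum_add_distrib]
      abel
  rw [h3, add_sub_add_left_eq_sub, ← Finset.sum_sub_distrib]
  refine Submodule.sum_mem _ fun i _ => ?_
  rw [← sub_smul, hd, mul_smul]
  have : ϖ ^ n • d i n • (i : N) = π ^ (n : ℤ) • (d i n • (i : N)) := by
    rw [zpow_natCast, ← hϖ, ← map_pow, algebraMap_smul]
  rw [this]
  exact smul_mem_pp (Submodule.smul_mem _ _ (Submodule.subset_span i.2))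

end Basic

end K797.Lat
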