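import Groth.Prelude.Def_Isoc
import Groth.Agent.Isoc.K797.Lat
import Groth.Agent.Pi1.H386.WittBase
import Mathlib.RingTheory.WittVector.Complete

/-!
# The twist `Isoc.frob` is good; iterates; finite fields
-/

open scoped Pointwise Isocrystal

set_option linter.unusedSectionVars false

universe u

namespace K797.Frob

variable (p : ℕ) [Fact p.Prime] (k : Type u) [Field k] [CharP k p] [PerfectRing k p]

open WittVector

instance un_p : K797.Lat.Un (WittVector p k) (p : K(p, k)) :=
  ⟨⟨(p : WittVector p k), WittVector.irreducible p, map_natCast _ _⟩⟩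

theorem ringHom_ext {f g : K(p, k) →+* K(p, k)}
    (h : ∀ w : WittVector p k, f (algebraMap _ _ w) = g (algebraMap _ _ w)) : f = g := by
  apply IsLocalization.ringHom_ext (nonZeroDivisors (WittVector p k))
  ext w : 1
  exact h w

theorem frob_add (a b : ℤ) (x : K(p, k)) :
    Isoc.frob p k a (Isoc.frob p k b x) = Isoc.frob p k (a + b) x := by
  have : (Isoc.frob p k a).comp (Isoc.frob p k b) = Isoc.frob p k (a + b) := by
    apply ringHom_ext
    intro w
    rw [RingHom.comp_apply, Isoc.frob_algebraMap, Isoc.frob_algebraMap, Isoc.frob_algebraMap,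
      zpow_add]
    rfl
  rw [← this]; rfl

theorem frob_zero_apply (x : K(p, k)) : Isoc.frob p k 0 x = x := by
  rw [Isoc.frob_zero]; rfl

theorem frob_iterate (a : ℤ) (n : ℕ) (x : K(p, k)) :
    (⇑(Isoc.frob p k a))^[n] x = Isoc.frob p k (n * a) x := by
  induction n with
  | zero => simp [frob_zero_apply]
  | succ n ih =>
    rw [Function.iterate_succ', Function.comp_apply, ih, frob_add]
    congr 2
    push_cast; ring

theorem frob_bijective (a : ℤ) : Function.Bijective (Isoc.frob p k a) := by
  refine ⟨(Isoc.frob p k a).injective, fun x => ⟨Isoc.frob p k (-a) x, ?_⟩⟩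
  rw [frob_add, add_neg_cancel, frob_zero_apply]

theorem frob_good (a : ℤ) : K797.Lat.Good (WittVector p k) (p : K(p, k)) (Isoc.frob p k a) where
  bij := frob_bijective p k a
  fix := map_natCast _ _
  int w := ⟨_, Isoc.frob_algebraMap p k a w⟩
  int' w := ⟨(WittVector.frobeniusEquiv p k ^ (-a)) w, by
    rw [Isoc.frob_algebraMap, zpow_neg]
    congr 1
    exact (WittVector.frobeniusEquiv p k ^ a).apply_symm_apply w⟩

theorem charZero_L : CharZero K(p, k) := by
  have := Groth.Agent.Pi1.H386.WittBase.charZero_witt p k
  exact charZero_of_injective_algebraMap (IsFractionRing.injective (WittVector p k) K(p, k))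

theorem coeff_frobeniusEquiv_pow (m n : ℕ) (w : WittVector p k) :
    ((WittVector.frobeniusEquiv p k ^ m) w).coeff n = w.coeff n ^ p ^ m := by
  induction m with
  | zero => simp
  | succ m ih =>
    rw [pow_succ']
    change ((WittVector.frobeniusEquiv p k) ((WittVector.frobeniusEquiv p k ^ m) w)).coeff n = _
    rw [WittVector.frobeniusEquiv_apply,
      WittVector.coeff_frobenius_charP, ih, ← pow_mul, pow_succ]

theorem frob_card [Finite k] {m : ℕ} (hm : Nat.card k = p ^ m) (x : K(p, k)) :
    Isoc.frob p k m x = x := by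
  have := Fintype.ofFinite k
  have : Isoc.frob p k m = RingHom.id _ := by
    apply ringHom_ext
    intro w
    rw [Isoc.frob_algebraMap, RingHom.id_apply]
    congr 1
    ext n
    rw [zpow_natCast, coeff_frobeniusEquiv_pow, ← hm, Nat.card_eq_fintype_card, FiniteField.pow_card]
  rw [this]; rfl

/-- over a finite field, `σ(c) = c + 1` has no solution in `L`. -/
theorem no_solution [Finite k] (c : K(p, k)) : Isoc.frob p k 1 c ≠ c + 1 := by
  intro h
  have := Fintype.ofFinite k
  obtain ⟨m, hp, hm⟩ := FiniteField.card k p
  have h1 : ∀ n : ℕ, Isoc.frob p k n c = c + n := by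
    intro n
    induction n with
    | zero => simp [frob_zero_apply]
    | succ n ih =>
      rw [Nat.cast_succ, ← frob_add, h, map_add, map_one, ih]
      push_cast; ring
  have h2 := h1 m
  rw [frob_card p k (by rw [Nat.card_eq_fintype_card, hm])] at h2
  have h3 : ((m : ℕ) : K(p, k)) = 0 := by linear_combination -h2
  have := charZero_L p k
  exact m.ne_zero (Nat.cast_eq_zero.1 h3)

end K797.Frob
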