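import Groth.Agent.Isoc.K797.Tr
import Mathlib.Order.CompactlyGenerated.Basic

/-!
# Isoclinic subspaces (generic part): sums, subobjects, determinants, independence
-/

open scoped Pointwise Isocrystal

set_option linter.unusedSectionVars false

universe u v

namespace K797.Lat

section generic
variable {W L N : Type*} [CommRing W] [IsDomain W] [IsDiscreteValuationRing W] [Field L]
  [Algebra W L] [IsFractionRing W L]
  [AddCommGroup N] [Module W N] [Module L N] [IsScalarTower W L N]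
  {π : L} [hU : Un W π] {f : N →+ N}

theorem img_span (hf : SL W π f) (s : Set N) :
    img f (Submodule.span W s) = Submodule.span W (f '' s) := by
  apply le_antisymm
  · rw [img_le_iff]
    intro x hx
    induction hx using Submodule.span_induction with
    | mem x hx => exact Submodule.subset_span ⟨x, hx, rfl⟩
    | zero => simp
    | add x y _ _ hx hy => rw [map_add]; exact Submodule.add_mem _ hx hy
    | smul w x _ hx =>
      obtain ⟨w', hw'⟩ := hf.smul_W w
      rw [hw']
      exact Submodule.smul_mem _ _ hx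
  · rw [Submodule.span_le]
    rintro _ ⟨x, hx, rfl⟩
    exact apply_mem_img (Submodule.subset_span hx)

theorem img_it_mul_eq (hf : SL W π f) {M : Submodule W N} {r : ℤ} {s : ℕ}
    (h : img (it f s) M = pp π r M) (n : ℕ) : img (it f (s * n)) M = pp π (r * n) M := by
  induction n with
  | zero => simp [img_it_zero, pp_zero]
  | succ n ih =>
    rw [mul_add, mul_one, img_it_add hf, h, img_pp (hf.it _), ih, pp_pp]
    congr 1; push_cast; ring

theorem IsoIn.bot (μ : ℚ) : IsoIn W π f μ (⊥ : Submodule L N) := by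
  refine ⟨⊥, LatIn.bot, μ.num, μ.den, μ.den_pos, Rat.num_div_den μ, ?_⟩
  rw [img_bot]
  unfold pp
  simp

theorem IsoIn.sup (hf : SL W π f) {μ : ℚ} {P Q : Submodule L N} (h : IsoIn W π f μ P)
    (h' : IsoIn W π f μ Q) : IsoIn W π f μ (P ⊔ Q) := by
  obtain ⟨M, hM, r, s, hs, hrs, h⟩ := h
  obtain ⟨M', hM', r', s', hs', hrs', h'⟩ := h'
  have hs0 : (s : ℚ) ≠ 0 := by positivity
  have hs0' : (s' : ℚ) ≠ 0 := by positivity
  have hrr : r * s' = r' * s := by
    have h1 : (r : ℚ) / s = r' / s' := hrs.trans hrs'.symm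
    rw [div_eq_div_iff hs0 hs0'] at h1
    exact_mod_cast h1
  refine ⟨M ⊔ M', hM.sup hM', r * s', s * s', Nat.mul_pos hs hs', ?_, ?_⟩
  · rw [← hrs]; push_cast
    field_simp
  · rw [img_sup, img_it_mul_eq hf h, pp_sup, mul_comm s s', img_it_mul_eq hf h', hrr]

theorem pp_restrictScalars (r : ℤ) (P : Submodule L N) :
    pp π r (P.restrictScalars W) = P.restrictScalars W := by
  ext x
  rw [mem_pp]
  simp only [Submodule.restrictScalars_mem]
  exact P.smul_mem_iff (zpow_ne W π _)

theorem LatIn.inter {P Q : Submodule L N} {M : Submodule W N} (h : LatIn Q M) (hPQ : P ≤ Q) :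
    LatIn P (M ⊓ P.restrictScalars W) := by
  refine ⟨fg_of_le h.fg inf_le_left, le_antisymm ?_ ?_⟩
  · rw [Submodule.span_le]
    exact fun x hx => hx.2
  · intro x hx
    obtain ⟨ϖ, hϖ⟩ := IsDiscreteValuationRing.exists_irreducible W
    have : Un W (algebraMap W L ϖ) := ⟨ϖ, hϖ, rfl⟩
    obtain ⟨n, hn⟩ := h.exists_mem_pp (π := algebraMap W L ϖ) (hPQ hx)
    rw [mem_pp, neg_neg] at hn
    have h2 : x = (algebraMap W L ϖ) ^ (-(n : ℤ)) • ((algebraMap W L ϖ) ^ (n : ℤ) • x) := by
      rw [smul_smul, zpow_neg, inv_mul_cancel₀ (zpow_ne W _ _), one_smul]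
    rw [h2]
    exact Submodule.smul_mem _ _ (Submodule.subset_span ⟨hn, P.smul_mem _ hx⟩)

theorem img_restrictScalars (hf : SL W π f) (hi : Function.Injective f) {P : Submodule L N}
    [FiniteDimensional L P] (hP : ∀ x ∈ P, f x ∈ P) :
    img f (P.restrictScalars W) = P.restrictScalars W := by
  ext x
  rw [mem_img hf]
  exact ⟨fun ⟨y, hy, hxy⟩ => hxy ▸ hP y hy, fun hx => hf.surj_of_stable hi hP hx⟩

theorem IsoIn.mono (hf : SL W π f) (hi : Function.Injective f) {μ : ℚ} {P Q : Submodule L N}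
    (hPQ : P ≤ Q) (hP : ∀ x ∈ P, f x ∈ P) (h : IsoIn W π f μ Q) : IsoIn W π f μ P := by
  obtain ⟨M, hM, r, s, hs, hrs, h⟩ := h
  have := hM.finite
  have : FiniteDimensional L P := Submodule.finiteDimensional_of_le hPQ
  refine ⟨M ⊓ P.restrictScalars W, hM.inter hPQ, r, s, hs, hrs, ?_⟩
  rw [img_inf (hf.it s) (it_injective hi s), h, pp_inf, pp_restrictScalars,
    img_restrictScalars (hf.it s) (it_injective hi s) (fun x hx => it_stable hP s hx)]

/-- the order of the determinant on an isoclinic subspace. -/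
theorem IsoIn.oDet_eq (hf : SL W π f) (hb : Function.Bijective f) {μ : ℚ} {P : Submodule L N}
    (h : IsoIn W π f μ P) {d : ℤ} (hd : ODet W π f P d) :
    (d : ℚ) = μ * Module.finrank L P := by
  obtain ⟨M, hM, r, s, hs, hrs, h⟩ := h
  have h1 := ODet.eq_of_img_eq (hf.it s) (it_bijective hb s) (ODet.it hf hd s) hM h
  have hs0 : (s : ℚ) ≠ 0 := by positivity
  have h2 : (s : ℚ) * d = r * Module.finrank L P := by exact_mod_cast h1
  rw [← hrs]
  field_simp
  linarith

/-- the sup of a sup-closed family of isoclinic stable subspaces. -/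
theorem sSup_isoIn [FiniteDimensional L N] (hf : SL W π f) (μ : ℚ) :
    (∀ x ∈ sSup {P : Submodule L N | (∀ x ∈ P, f x ∈ P) ∧ IsoIn W π f μ P},
      f x ∈ sSup {P : Submodule L N | (∀ x ∈ P, f x ∈ P) ∧ IsoIn W π f μ P}) ∧
    IsoIn W π f μ (sSup {P : Submodule L N | (∀ x ∈ P, f x ∈ P) ∧ IsoIn W π f μ P}) := by
  have key : sSup {P : Submodule L N | (∀ x ∈ P, f x ∈ P) ∧ IsoIn W π f μ P} ∈
      {P : Submodule L N | (∀ x ∈ P, f x ∈ P) ∧ IsoIn W π f μ P} := by
    apply CompleteLattice.WellFoundedGT.isSupClosedCompact (α := Submodule L N) inferInstance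
    · exact ⟨⊥, fun x hx => by rw [Submodule.mem_bot] at hx ⊢; simp [hx], IsoIn.bot μ⟩
    · rintro P ⟨hP, hP'⟩ Q ⟨hQ, hQ'⟩
      refine ⟨?_, hP'.sup hf hQ'⟩
      intro x hx
      obtain ⟨y, hy, z, hz, rfl⟩ := Submodule.mem_sup.1 hx
      rw [map_add]
      exact Submodule.add_mem_sup (hP y hy) (hQ z hz)
  exact key

end generic

section conc
variable {p : ℕ} [Fact p.Prime] {k : Type u} [Field k] [CharP k p] [PerfectRing k p] {a : ℤ}
  {N : Type v} [AddCommGroup N] [Module (WittVector p k) N] [Module (FractionRing (WittVector p k)) N]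
  [IsScalarTower (WittVector p k) (FractionRing (WittVector p k)) N]

theorem slopePart_stable (F : N →ₛₗ[Isoc.frob p k a] N) (hF : Isoc.IsIsoc F) (μ : ℚ) :
    ∀ x ∈ Isoc.slopePart F μ, F x ∈ Isoc.slopePart F μ := by
  have := hF.finite
  rw [slopePart_eq]
  exact (sSup_isoIn (sl F) μ).1

theorem slopePart_isoIn (F : N →ₛₗ[Isoc.frob p k a] N) (hF : Isoc.IsIsoc F) (μ : ℚ) :
    IsoIn (WittVector p k) (p : K(p, k)) F.toAddMonoidHom μ (Isoc.slopePart F μ) := by
  have := hF.finite
  rw [slopePart_eq]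
  exact (sSup_isoIn (sl F) μ).2

theorem le_slopePart (F : N →ₛₗ[Isoc.frob p k a] N) (μ : ℚ) {P : Submodule K(p, k) N}
    (hP : ∀ x ∈ P, F x ∈ P) (h : IsoIn (WittVector p k) (p : K(p, k)) F.toAddMonoidHom μ P) :
    P ≤ Isoc.slopePart F μ := by
  rw [slopePart_eq]
  exact le_sSup ⟨hP, h⟩

end conc

end K797.Lat
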