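import Groth.Agent.Isoc.K797.Lat

/-!
# Good semilinear maps, images of lattices, sub-lattices (generic part)
-/

open scoped Pointwise

set_option linter.unusedSectionVars false

namespace K797.Lat

section SLbasic
variable {W L N : Type*} [CommRing W] [IsDomain W] [IsDiscreteValuationRing W] [Field L]
  [Algebra W L] [IsFractionRing W L]
  [AddCommGroup N] [Module W N] [Module L N] [IsScalarTower W L N]
  {π : L} [hU : Un W π]

theorem Good.inj {τ : L →+* L} (_h : Good W π τ) : Function.Injective τ := τ.injective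

theorem Good.map_zpow {τ : L →+* L} (h : Good W π τ) (r : ℤ) : τ (π ^ r) = π ^ r := by
  rw [map_zpow₀, h.fix]

theorem Good.id : Good W π (RingHom.id L) where
  bij := Function.bijective_id
  fix := rfl
  int w := ⟨w, rfl⟩
  int' w := ⟨w, rfl⟩

theorem Good.comp {τ σ : L →+* L} (h : Good W π τ) (h' : Good W π σ) : Good W π (τ.comp σ) where
  bij := h.bij.comp h'.bij
  fix := by rw [RingHom.comp_apply, h'.fix, h.fix]
  int w := by
    obtain ⟨w', hw'⟩ := h'.int w
    obtain ⟨w'', hw''⟩ := h.int w'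
    exact ⟨w'', by rw [RingHom.comp_apply, hw', hw'']⟩
  int' w := by
    obtain ⟨w', hw'⟩ := h.int' w
    obtain ⟨w'', hw''⟩ := h'.int' w'
    exact ⟨w'', by rw [RingHom.comp_apply, hw'', hw']⟩

theorem Good.pow {τ : L →+* L} (h : Good W π τ) (n : ℕ) : Good W π (τ ^ n) := by
  induction n with
  | zero => exact Good.id
  | succ n ih => rw [pow_succ]; exact ih.comp h

theorem Good.exists_inv {τ : L →+* L} (h : Good W π τ) :
    ∃ σ : L →+* L, Good W π σ ∧ (∀ x, σ (τ x) = x) ∧ ∀ x, τ (σ x) = x := by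
  let e := RingEquiv.ofBijective τ h.bij
  have h1 : ∀ x, e.symm (τ x) = x := fun x => e.symm_apply_apply x
  have h2 : ∀ x, τ (e.symm x) = x := fun x => e.apply_symm_apply x
  refine ⟨e.symm.toRingHom, ⟨e.symm.bijective, ?_, ?_, ?_⟩, h1, h2⟩
  · change e.symm π = π
    conv_lhs => rw [← h.fix]
    exact h1 π
  · intro w
    obtain ⟨w', hw'⟩ := h.int' w
    exact ⟨w', by change e.symm _ = _; rw [← hw', h1]⟩
  · intro w
    obtain ⟨w', hw'⟩ := h.int w
    exact ⟨w', by change e.symm _ = _; rw [← hw', h1]⟩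

variable {f g : N →+ N}

theorem SL.id : SL W π (AddMonoidHom.id N) := ⟨RingHom.id L, Good.id, fun _ _ => rfl⟩

theorem SL.comp (hf : SL W π f) (hg : SL W π g) : SL W π (f.comp g) := by
  obtain ⟨τ, h, hτ⟩ := hf
  obtain ⟨σ, h', hσ⟩ := hg
  exact ⟨τ.comp σ, h.comp h', fun c x => by
    rw [AddMonoidHom.comp_apply, hσ, hτ]; rfl⟩

/-- the iterates of an additive map. -/
def it (f : N →+ N) (n : ℕ) : N →+ N where
  toFun := f^[n]
  map_zero' := by
    induction n with
    | zero => rfl
    | succ n ih => rw [Function.iterate_succ', Function.comp_apply, ih, map_zero]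
  map_add' x y := by
    induction n with
    | zero => rfl
    | succ n ih => rw [Function.iterate_succ', Function.comp_apply, ih, map_add]; rfl

theorem it_apply (f : N →+ N) (n : ℕ) (x : N) : it f n x = f^[n] x := rfl

theorem coe_it (f : N →+ N) (n : ℕ) : ⇑(it f n) = f^[n] := rfl

theorem it_zero (f : N →+ N) : it f 0 = AddMonoidHom.id N := rfl

theorem it_one (f : N →+ N) : it f 1 = f := rfl

theorem it_succ (f : N →+ N) (n : ℕ) : it f (n + 1) = f.comp (it f n) := by
  ext x; rw [it_apply, Function.iterate_succ']; rfl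

theorem it_succ' (f : N →+ N) (n : ℕ) : it f (n + 1) = (it f n).comp f := by
  ext x; rw [it_apply, Function.iterate_succ]; rfl

theorem it_add (f : N →+ N) (m n : ℕ) : it f (m + n) = (it f m).comp (it f n) := by
  ext x; simp [it_apply, Function.iterate_add]

theorem it_mul (f : N →+ N) (m n : ℕ) : it f (m * n) = it (it f m) n := by
  ext x; rw [it_apply, it_apply, coe_it, Function.iterate_mul]

theorem it_add_apply (f : N →+ N) (m n : ℕ) (x : N) : it f (m + n) x = it f m (it f n x) := by
  rw [it_add]; rfl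

theorem it_succ_apply (f : N →+ N) (n : ℕ) (x : N) : it f (n + 1) x = f (it f n x) := by
  rw [it_succ]; rfl

theorem it_succ_apply' (f : N →+ N) (n : ℕ) (x : N) : it f (n + 1) x = it f n (f x) := by
  rw [it_succ']; rfl

theorem it_comm (f : N →+ N) (m n : ℕ) (x : N) : it f m (it f n x) = it f n (it f m x) := by
  rw [← it_add_apply, ← it_add_apply, add_comm]

theorem SL.it (hf : SL W π f) (n : ℕ) : SL W π (it f n) := by
  induction n with
  | zero => exact SL.id
  | succ n ih => rw [it_succ]; exact hf.comp ih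

/-- `x ↦ c • f x`. -/
def smulMap (c : L) (f : N →+ N) : N →+ N where
  toFun x := c • f x
  map_zero' := by simp
  map_add' x y := by simp

theorem smulMap_apply (c : L) (f : N →+ N) (x : N) : smulMap c f x = c • f x := rfl

theorem SL.smulMap (hf : SL W π f) (c : L) : SL W π (smulMap c f) := by
  obtain ⟨τ, h, hτ⟩ := hf
  exact ⟨τ, h, fun d x => by rw [smulMap_apply, smulMap_apply, hτ, smul_comm]⟩

theorem SL.map_zpow (hf : SL W π f) (r : ℤ) (x : N) : f (π ^ r • x) = π ^ r • f x := by
  obtain ⟨τ, h, hτ⟩ := hf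
  rw [hτ, h.map_zpow]

theorem SL.smul_W (hf : SL W π f) (w : W) : ∃ w' : W, ∀ x : N, f (w • x) = w' • f x := by
  obtain ⟨τ, h, hτ⟩ := hf
  obtain ⟨w', hw'⟩ := h.int w
  exact ⟨w', fun x => by rw [← algebraMap_smul L w, hτ, hw', algebraMap_smul]⟩

theorem SL.smul_W' (hf : SL W π f) (w' : W) : ∃ w : W, ∀ x : N, f (w • x) = w' • f x := by
  obtain ⟨τ, h, hτ⟩ := hf
  obtain ⟨w, hw⟩ := h.int' w'
  exact ⟨w, fun x => by rw [← algebraMap_smul L w, hτ, hw, algebraMap_smul]⟩

theorem SL.smul_L (hf : SL W π f) (w : L) : ∃ w' : L, ∀ x : N, f (w • x) = w' • f x := by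
  obtain ⟨τ, h, hτ⟩ := hf
  exact ⟨τ w, hτ w⟩

theorem SL.smul_L' (hf : SL W π f) (w' : L) : ∃ w : L, ∀ x : N, f (w • x) = w' • f x := by
  obtain ⟨τ, h, hτ⟩ := hf
  obtain ⟨w, hw⟩ := h.bij.2 w'
  exact ⟨w, fun x => by rw [hτ, hw]⟩

/-- the inverse of a bijective good semilinear map. -/
theorem SL.exists_inv (hf : SL W π f) (hb : Function.Bijective f) :
    ∃ g : N →+ N, SL W π g ∧ (∀ x, g (f x) = x) ∧ ∀ x, f (g x) = x := by
  obtain ⟨τ, h, hτ⟩ := hf
  obtain ⟨σ, h', hσ1, hσ2⟩ := h.exists_inv
  let e := AddEquiv.ofBijective f hb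
  have h1 : ∀ x, e.symm (f x) = x := fun x => e.symm_apply_apply x
  have h2 : ∀ x, f (e.symm x) = x := fun x => e.apply_symm_apply x
  refine ⟨e.symm.toAddMonoidHom, ⟨σ, h', fun c x => ?_⟩, h1, h2⟩
  change e.symm (c • x) = σ c • e.symm x
  apply hb.1
  rw [h2, hτ, h2, hσ2]

theorem mem_img (hf : SL W π f) {M : Submodule W N} {x : N} :
    x ∈ img f M ↔ ∃ y ∈ M, f y = x := by
  constructor
  · intro hx
    induction hx using Submodule.span_induction with
    | mem x hx => exact hx
    | zero => exact ⟨0, M.zero_mem, map_zero f⟩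
    | add x y _ _ hx hy =>
      obtain ⟨x', hx', rfl⟩ := hx
      obtain ⟨y', hy', rfl⟩ := hy
      exact ⟨x' + y', M.add_mem hx' hy', map_add f _ _⟩
    | smul w x _ hx =>
      obtain ⟨x', hx', rfl⟩ := hx
      obtain ⟨w', hw'⟩ := hf.smul_W' w
      exact ⟨w' • x', M.smul_mem _ hx', hw' x'⟩
  · rintro ⟨y, hy, rfl⟩
    exact Submodule.subset_span ⟨y, hy, rfl⟩

theorem apply_mem_img {M : Submodule W N} {x : N} (hx : x ∈ M) : f x ∈ img f M :=
  Submodule.subset_span ⟨x, hx, rfl⟩

theorem img_mono {M M' : Submodule W N} (h : M ≤ M') : img f M ≤ img f M' :=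
  Submodule.span_mono (Set.image_mono h)

theorem img_le_iff {M M' : Submodule W N} : img f M ≤ M' ↔ ∀ x ∈ M, f x ∈ M' := by
  unfold img
  rw [Submodule.span_le, Set.image_subset_iff]; rfl

theorem img_comp (hf : SL W π f) (hg : SL W π g) (M : Submodule W N) :
    img (f.comp g) M = img f (img g M) := by
  ext x
  rw [mem_img (hf.comp hg), mem_img hf]
  constructor
  · rintro ⟨y, hy, rfl⟩
    exact ⟨g y, apply_mem_img hy, rfl⟩
  · rintro ⟨y, hy, rfl⟩
    obtain ⟨z, hz, rfl⟩ := (mem_img hg).1 hy
    exact ⟨z, hz, rfl⟩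

theorem img_id (M : Submodule W N) : img (AddMonoidHom.id N) M = M := by
  unfold img
  rw [show (⇑(AddMonoidHom.id N) '' (M : Set N)) = M by ext x; simp, Submodule.span_eq]

theorem img_it_zero (f : N →+ N) (M : Submodule W N) : img (it f 0) M = M := img_id M

theorem img_it_add (hf : SL W π f) (m n : ℕ) (M : Submodule W N) :
    img (it f (m + n)) M = img (it f m) (img (it f n) M) := by
  rw [it_add, img_comp (hf.it m) (hf.it n)]

theorem img_it_succ (hf : SL W π f) (n : ℕ) (M : Submodule W N) :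
    img (it f (n + 1)) M = img f (img (it f n) M) := by
  rw [it_succ, img_comp hf (hf.it n)]

theorem img_it_succ' (hf : SL W π f) (n : ℕ) (M : Submodule W N) :
    img (it f (n + 1)) M = img (it f n) (img f M) := by
  rw [it_succ', img_comp (hf.it n) hf]

theorem img_pp (hf : SL W π f) (r : ℤ) (M : Submodule W N) :
    img f (pp π r M) = pp π r (img f M) := by
  ext x
  rw [mem_img hf, mem_pp, mem_img hf]
  constructor
  · rintro ⟨y, hy, rfl⟩
    exact ⟨π ^ (-r) • y, mem_pp.1 hy, hf.map_zpow _ _⟩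
  · rintro ⟨y, hy, hxy⟩
    refine ⟨π ^ r • y, smul_mem_pp hy, ?_⟩
    rw [hf.map_zpow, hxy, smul_smul, zpow_neg, mul_inv_cancel₀ (zpow_ne W π r), one_smul]

theorem img_smulMap (hf : SL W π f) (r : ℤ) (M : Submodule W N) :
    img (smulMap (π ^ r) f) M = pp π r (img f M) := by
  ext x
  rw [mem_img (hf.smulMap _), mem_pp, mem_img hf]
  constructor
  · rintro ⟨y, hy, rfl⟩
    refine ⟨y, hy, ?_⟩
    rw [smulMap_apply, smul_smul, zpow_neg, inv_mul_cancel₀ (zpow_ne W π r), one_smul]
  · rintro ⟨y, hy, hxy⟩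
    refine ⟨y, hy, ?_⟩
    rw [smulMap_apply, hxy, smul_smul, zpow_neg, mul_inv_cancel₀ (zpow_ne W π r), one_smul]

theorem img_sup (M M' : Submodule W N) :
    img f (M ⊔ M') = img f M ⊔ img f M' := by
  apply le_antisymm
  · rw [img_le_iff]
    intro x hx
    obtain ⟨y, hy, z, hz, rfl⟩ := Submodule.mem_sup.1 hx
    rw [map_add]
    exact Submodule.add_mem_sup (apply_mem_img hy) (apply_mem_img hz)
  · exact sup_le (img_mono le_sup_left) (img_mono le_sup_right)

theorem img_bot : img f (⊥ : Submodule W N) = ⊥ := by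
  rw [eq_bot_iff, img_le_iff]
  intro x hx
  rw [Submodule.mem_bot] at hx
  simp [hx]

theorem img_iSup {ι : Sort*} (M : ι → Submodule W N) : img f (⨆ i, M i) = ⨆ i, img f (M i) := by
  apply le_antisymm
  · rw [img_le_iff]
    intro x hx
    induction hx using Submodule.iSup_induction' with
    | mem i x hx => exact (le_iSup (fun i => img f (M i)) i) (apply_mem_img hx)
    | zero => simp
    | add x y _ _ hx hy => rw [map_add]; exact Submodule.add_mem _ hx hy
  · exact iSup_le fun i => img_mono (le_iSup _ i)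

theorem img_inf (hf : SL W π f) (hi : Function.Injective f) (M M' : Submodule W N) :
    img f (M ⊓ M') = img f M ⊓ img f M' := by
  ext x
  rw [Submodule.mem_inf, mem_img hf, mem_img hf, mem_img hf]
  constructor
  · rintro ⟨y, hy, rfl⟩
    exact ⟨⟨y, hy.1, rfl⟩, ⟨y, hy.2, rfl⟩⟩
  · rintro ⟨⟨y, hy, rfl⟩, ⟨z, hz, hzy⟩⟩
    rw [hi hzy] at hz
    exact ⟨y, ⟨hy, hz⟩, rfl⟩

theorem img_iInf (hf : SL W π f) (hi : Function.Injective f) {ι : Sort*} [Nonempty ι]
    (M : ι → Submodule W N) : img f (⨅ i, M i) = ⨅ i, img f (M i) := by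
  ext x
  rw [Submodule.mem_iInf, mem_img hf]
  constructor
  · rintro ⟨y, hy, rfl⟩ i
    exact apply_mem_img ((Submodule.mem_iInf _).1 hy i)
  · intro h
    obtain ⟨y, -, rfl⟩ := (mem_img hf).1 (h (Classical.arbitrary ι))
    refine ⟨y, ?_, rfl⟩
    rw [Submodule.mem_iInf]
    intro i
    obtain ⟨z, hz, hzy⟩ := (mem_img hf).1 (h i)
    rwa [hi hzy] at hz

theorem img_fg (hf : SL W π f) {M : Submodule W N} (h : M.FG) : (img f M).FG := by
  classical
  obtain ⟨s, rfl⟩ := h
  refine ⟨s.image f, ?_⟩
  apply le_antisymm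
  · rw [Submodule.span_le]
    intro x hx
    obtain ⟨y, hy, rfl⟩ := Finset.mem_image.1 (Finset.mem_coe.1 hx)
    exact apply_mem_img (Submodule.subset_span hy)
  · rw [img_le_iff]
    intro x hx
    induction hx using Submodule.span_induction with
    | mem x hx => exact Submodule.subset_span (Finset.mem_coe.2 (Finset.mem_image_of_mem _ hx))
    | zero => simp
    | add x y _ _ hx hy => rw [map_add]; exact Submodule.add_mem _ hx hy
    | smul w x _ hx =>
      obtain ⟨w', hw'⟩ := hf.smul_W w
      rw [hw']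
      exact Submodule.smul_mem _ _ hx

/-- `f` maps the span of `M` onto the span of the image. -/
theorem mem_span_img (hf : SL W π f) {M : Submodule W N} {x : N} :
    x ∈ Submodule.span L (img f M : Set N) ↔ ∃ y ∈ Submodule.span L (M : Set N), f y = x := by
  constructor
  · intro hx
    induction hx using Submodule.span_induction with
    | mem x hx =>
      obtain ⟨y, hy, rfl⟩ := (mem_img hf).1 hx
      exact ⟨y, Submodule.subset_span hy, rfl⟩
    | zero => exact ⟨0, Submodule.zero_mem _, map_zero f⟩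
    | add x y _ _ hx hy =>
      obtain ⟨x', hx', rfl⟩ := hx
      obtain ⟨y', hy', rfl⟩ := hy
      exact ⟨x' + y', Submodule.add_mem _ hx' hy', map_add f _ _⟩
    | smul w x _ hx =>
      obtain ⟨x', hx', rfl⟩ := hx
      obtain ⟨w', hw'⟩ := hf.smul_L' w
      exact ⟨w' • x', Submodule.smul_mem _ _ hx', hw' x'⟩
  · rintro ⟨y, hy, rfl⟩
    induction hy using Submodule.span_induction with
    | mem x hx => exact Submodule.subset_span (apply_mem_img hx)
    | zero => rw [map_zero]; exact Submodule.zero_mem _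
    | add x y _ _ hx hy => rw [map_add]; exact Submodule.add_mem _ hx hy
    | smul w x _ hx =>
      obtain ⟨w', hw'⟩ := hf.smul_L w
      rw [hw']
      exact Submodule.smul_mem _ _ hx

/-- `M` is a lattice in the subspace `P`. -/
structure LatIn (P : Submodule L N) (M : Submodule W N) : Prop where
  fg : M.FG
  span : Submodule.span L (M : Set N) = P

theorem latIn_top {M : Submodule W N} : LatIn (⊤ : Submodule L N) M ↔ M.IsLattice L :=
  ⟨fun h => ⟨h.fg, h.span⟩, fun h => ⟨h.fg, h.span_eq_top⟩⟩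

theorem LatIn.le {P : Submodule L N} {M : Submodule W N} (h : LatIn P M) {x : N} (hx : x ∈ M) :
    x ∈ P := h.span ▸ Submodule.subset_span hx

theorem LatIn.pp {P : Submodule L N} {M : Submodule W N} (h : LatIn P M) (r : ℤ) :
    LatIn P (pp π r M) := ⟨pp_fg h.fg, by rw [span_pp, h.span]⟩

theorem LatIn.sup {P P' : Submodule L N} {M M' : Submodule W N} (h : LatIn P M)
    (h' : LatIn P' M') : LatIn (P ⊔ P') (M ⊔ M') := by
  refine ⟨h.fg.sup h'.fg, ?_⟩
  rw [← h.span, ← h'.span, ← Submodule.span_union]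
  apply le_antisymm
  · rw [Submodule.span_le]
    intro x hx
    obtain ⟨y, hy, z, hz, rfl⟩ := Submodule.mem_sup.1 hx
    exact Submodule.add_mem _ (Submodule.subset_span (Or.inl hy))
      (Submodule.subset_span (Or.inr hz))
  · apply Submodule.span_mono
    rintro x (hx | hx)
    · exact (le_sup_left : M ≤ M ⊔ M') hx
    · exact (le_sup_right : M' ≤ M ⊔ M') hx

theorem LatIn.bot : LatIn (⊥ : Submodule L N) (⊥ : Submodule W N) :=
  ⟨Submodule.fg_bot, by simp⟩

theorem LatIn.of_le {P : Submodule L N} {M M' : Submodule W N} (h : LatIn P M)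
    (h' : M'.FG) (hle : M ≤ M') (hP : ∀ x ∈ M', x ∈ P) : LatIn P M' :=
  ⟨h', le_antisymm (Submodule.span_le.2 hP) (h.span ▸ Submodule.span_mono hle)⟩

theorem LatIn.exists_le_pp {P : Submodule L N} {M M' : Submodule W N} (h : LatIn P M)
    (h' : M'.FG) (hP : ∀ x ∈ M', x ∈ P) : ∃ n : ℕ, M' ≤ K797.Lat.pp π (-(n : ℤ)) M :=
  exists_le_pp_of_le_span π h' (by rw [h.span]; exact hP)

theorem LatIn.exists_mem_pp {P : Submodule L N} {M : Submodule W N} (h : LatIn P M) {x : N}
    (hx : x ∈ P) : ∃ n : ℕ, x ∈ K797.Lat.pp π (-(n : ℤ)) M :=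
  exists_mem_pp_of_mem_span π (by rw [h.span]; exact hx)

/-- a submodule between two lattices is a lattice. -/
theorem fg_of_le {M M' : Submodule W N} (h : M'.FG) (hle : M ≤ M') : M.FG := by
  have : IsNoetherian W M' := by
    have : Module.Finite W M' := Module.Finite.iff_fg.2 h
    infer_instance
  exact Submodule.FG.of_le h hle

theorem LatIn.of_between {P : Submodule L N} {M M' M'' : Submodule W N} (h : LatIn P M)
    (h'' : LatIn P M'') (h1 : M ≤ M') (h2 : M' ≤ M'') : LatIn P M' :=
  h.of_le (fg_of_le h''.fg h2) h1 fun _ hx => h''.le (h2 hx)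

theorem exists_latIn (P : Submodule L N) [FiniteDimensional L P] :
    ∃ M : Submodule W N, LatIn P M := by
  have : P.FG := Module.Finite.iff_fg.1 ‹_›
  obtain ⟨s, rfl⟩ := this
  refine ⟨Submodule.span W (s : Set N), ⟨⟨s, rfl⟩, ?_⟩⟩
  rw [Submodule.span_span_of_tower]

theorem LatIn.finite {P : Submodule L N} {M : Submodule W N} (h : LatIn P M) :
    FiniteDimensional L P := by
  obtain ⟨⟨s, rfl⟩, h2⟩ := h
  rw [Submodule.span_span_of_tower] at h2
  rw [← h2]
  exact FiniteDimensional.span_finset L s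

/-- a lattice in `P` has a basis with `dim P` elements, which is an `L`-basis of `P`. -/
theorem LatIn.exists_basis {P : Submodule L N} {M : Submodule W N} (h : LatIn P M) :
    ∃ b : Fin (Module.finrank L P) → N, LinearIndependent L b ∧
      Submodule.span W (Set.range b) = M ∧ Submodule.span L (Set.range b) = P := by
  have hfin : Module.Finite W M := Module.Finite.iff_fg.2 h.fg
  have htf : Module.IsTorsionFree W N := Module.IsTorsionFree.trans_faithfulSMul W L N
  have hfree : Module.Free W M := inferInstance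
  let b := Module.finBasis W M
  have hli : LinearIndependent L (fun i => ((b i : M) : N)) := by
    rw [← LinearIndependent.iff_fractionRing (R := W)]
    exact b.linearIndependent.map' M.subtype (Submodule.ker_subtype M)
  have hsp : Submodule.span W (Set.range (fun i => ((b i : M) : N))) = M := by
    have := b.span_eq
    have h2 := congrArg (Submodule.map M.subtype) this
    rw [Submodule.map_span, ← Set.range_comp, Submodule.map_top, Submodule.range_subtype] at h2
    exact h2
  have hsp2 : Submodule.span L (Set.range (fun i => ((b i : M) : N))) = P := by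
    rw [← h.span]
    conv_rhs => rw [← hsp]
    rw [Submodule.span_span_of_tower]
  have hcard : Module.finrank W M = Module.finrank L P := by
    have := finrank_span_eq_card hli
    rw [hsp2, Fintype.card_fin] at this
    exact this.symm
  rw [← hcard]
  exact ⟨_, hli, hsp, hsp2⟩

/-- semilinear stability: an injective good semilinear map carrying the finite-dimensional subspace
`P` into itself carries it onto itself. -/
theorem SL.surj_of_stable (hf : SL W π f) (hi : Function.Injective f) {P : Submodule L N}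
    [FiniteDimensional L P] (hP : ∀ x ∈ P, f x ∈ P) {x : N} (hx : x ∈ P) :
    ∃ y ∈ P, f y = x := by
  obtain ⟨τ, h, hτ⟩ := hf
  let b := Module.finBasis L P
  have hli : LinearIndependent L (fun i => ((b i : P) : N)) :=
    b.linearIndependent.map' P.subtype (Submodule.ker_subtype P)
  have hli2 : LinearIndependent L (f ∘ fun i => ((b i : P) : N)) :=
    hli.map_of_surjective_injective τ f h.bij.2 ((injective_iff_map_eq_zero f).1 hi) hτ
  have hle : Submodule.span L (Set.range (f ∘ fun i => ((b i : P) : N))) ≤ P := by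
    rw [Submodule.span_le]
    rintro _ ⟨i, rfl⟩
    exact hP _ (b i).2
  have heq : Submodule.span L (Set.range (f ∘ fun i => ((b i : P) : N))) = P := by
    apply Submodule.eq_of_le_of_finrank_eq hle
    rw [finrank_span_eq_card hli2, Fintype.card_fin]
  rw [← heq] at hx
  obtain ⟨c, hc⟩ := (Submodule.mem_span_range_iff_exists_fun L).1 hx
  choose d hd using fun i => h.bij.2 (c i)
  refine ⟨∑ i, d i • ((b i : P) : N), P.sum_mem fun i _ => P.smul_mem _ (b i).2, ?_⟩
  rw [map_sum, ← hc]
  refine Finset.sum_congr rfl fun i _ => ?_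
  rw [hτ, hd]; rfl

theorem LatIn.img (hf : SL W π f) (hi : Function.Injective f) {P : Submodule L N}
    (hP : ∀ x ∈ P, f x ∈ P) {M : Submodule W N} (h : LatIn P M) : LatIn P (img f M) := by
  refine ⟨img_fg hf h.fg, ?_⟩
  have := h.finite
  ext x
  rw [mem_span_img hf, h.span]
  exact ⟨fun ⟨y, hy, hxy⟩ => hxy ▸ hP y hy, fun hx => hf.surj_of_stable hi hP hx⟩

theorem it_stable {P : Submodule L N} (hP : ∀ x ∈ P, f x ∈ P) (n : ℕ)
    {x : N} (hx : x ∈ P) : it f n x ∈ P := by
  induction n with
  | zero => exact hx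
  | succ n ih => rw [it_succ_apply]; exact hP _ ih

theorem it_injective (hf : Function.Injective f) (n : ℕ) : Function.Injective (it f n) :=
  hf.iterate n

theorem it_bijective (hf : Function.Bijective f) (n : ℕ) : Function.Bijective (it f n) :=
  hf.iterate n

end SLbasic

end K797.Lat
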