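import Groth.Agent.Isoc.K797.Pieces
import Mathlib.LinearAlgebra.Matrix.Charpoly.Basic
import Mathlib.LinearAlgebra.Matrix.Charpoly.Coeff
import Mathlib.LinearAlgebra.Charpoly.ToMatrix
import Mathlib.LinearAlgebra.Matrix.ToLinearEquiv
import Mathlib.RingTheory.IntegralClosure.IntegrallyClosed
import Mathlib.RingTheory.Polynomial.RationalRoot
import Mathlib.Algebra.DirectSum.Module

/-!
# Determinants and characteristic polynomials along the slope decomposition
-/

open scoped Pointwise Isocrystal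

set_option linter.unusedSectionVars false

universe u v w

namespace K797.Lat

section generic
variable {W L N : Type*} [CommRing W] [IsDomain W] [IsDiscreteValuationRing W] [Field L]
  [Algebra W L] [IsFractionRing W L]
  [AddCommGroup N] [Module W N] [Module L N] [IsScalarTower W L N]
  {π : L} [hU : Un W π] {f : N →+ N}

theorem sup_eq_top_of_iSup {ι : Type*} [DecidableEq ι] {P : ι → Submodule L N} {t : Finset ι}
    (h : iSup P = ⊤) (ht : ∀ i, i ∉ t → P i = ⊥) : t.sup P = ⊤ := by
  rw [eq_top_iff, ← h]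
  refine iSup_le fun i => ?_
  by_cases hi : i ∈ t
  · exact Finset.le_sup (f := P) hi
  · rw [ht i hi]; exact bot_le

theorem disjoint_sup_of_iSupIndep {ι : Type*} [DecidableEq ι] {P : ι → Submodule L N}
    (hP : iSupIndep P) {t : Finset ι} {i : ι} (hi : i ∉ t) : Disjoint (P i) (t.sup P) := by
  refine (hP i).mono_right ?_
  apply Finset.sup_le
  intro j hj
  exact le_iSup₂_of_le j (by rintro rfl; exact hi hj) le_rfl

/-- a multiset of roots of a linear map on a subspace. -/
def RootsOf (Ω : Type*) [Field Ω] [Algebra L Ω] (q : N →ₗ[L] N) (P : Submodule L N)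
    (R : Multiset Ω) : Prop :=
  ∃ (n : ℕ) (b : Fin n → N) (A : Matrix (Fin n) (Fin n) L), LinearIndependent L b ∧
    Submodule.span L (Set.range b) = P ∧ (∀ j, q (b j) = ∑ i, A i j • b i) ∧
    (A.charpoly.map (algebraMap L Ω)).roots = R

variable {Ω : Type*} [Field Ω] [Algebra L Ω] {q : N →ₗ[L] N}

theorem RootsOf.intro {ι : Type*} [Fintype ι] [DecidableEq ι] {P : Submodule L N} {R : Multiset Ω}
    (b : ι → N) (A : Matrix ι ι L) (hb : LinearIndependent L b)
    (hs : Submodule.span L (Set.range b) = P) (hA : ∀ j, q (b j) = ∑ i, A i j • b i)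
    (hd : (A.charpoly.map (algebraMap L Ω)).roots = R) : RootsOf Ω q P R := by
  let e := (Fintype.equivFin ι).symm
  refine ⟨Fintype.card ι, b ∘ e, A.submatrix e e, hb.comp e e.injective, ?_, ?_, ?_⟩
  · rw [e.surjective.range_comp, hs]
  · intro j
    rw [Function.comp_apply, hA]
    exact (Equiv.sum_comp e (fun i => A i (e j) • b i)).symm
  · rw [← hd]
    congr 2
    have := Matrix.charpoly_reindex e.symm A
    rwa [Matrix.reindex_apply, Equiv.symm_symm] at this

theorem RootsOf.sup {P Q : Submodule L N} {R S : Multiset Ω} (hPQ : Disjoint P Q)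
    (h : RootsOf Ω q P R) (h' : RootsOf Ω q Q S) : RootsOf Ω q (P ⊔ Q) (R + S) := by
  obtain ⟨n, b, A, hb, hs, hA, hd⟩ := h
  obtain ⟨m, c, B, hc, hs', hB, he⟩ := h'
  refine RootsOf.intro (Sum.elim b c) (Matrix.fromBlocks A 0 0 B) ?_ ?_ ?_ ?_
  · exact hb.sum_type hc (by rw [hs, hs']; exact hPQ)
  · rw [Set.Sum.elim_range, Submodule.span_union, hs, hs']
  · rintro (j | j)
    · simp [Fintype.sum_sum_type, hA]
    · simp [Fintype.sum_sum_type, hB]
  · rw [Matrix.charpoly_fromBlocks_zero₂₁, Polynomial.map_mul, Polynomial.roots_mul, hd, he]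
    rw [← Polynomial.map_mul]
    exact ((A.charpoly_monic.mul B.charpoly_monic).map _).ne_zero

theorem RootsOf.bot : RootsOf Ω q (⊥ : Submodule L N) 0 := by
  refine RootsOf.intro (ι := Empty) (fun i => i.elim) 1 linearIndependent_empty_type ?_ ?_ ?_
  · simp
  · intro j; exact j.elim
  · simp [Matrix.charpoly]

theorem RootsOf.top [FiniteDimensional L N] {R : Multiset Ω} (h : RootsOf Ω q ⊤ R) :
    R = (q.charpoly.map (algebraMap L Ω)).roots := by
  obtain ⟨n, b, A, hb, hs, hA, rfl⟩ := h
  let B : Module.Basis (Fin n) L N := Module.Basis.mk hb hs.ge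
  have hB : ∀ j, B j = b j := fun j => by simp [B]
  have : LinearMap.toMatrix B B q = A := by
    ext i j
    rw [LinearMap.toMatrix_apply, hB, hA, map_sum, Finset.sum_apply']
    simp_rw [map_smul, ← hB, Module.Basis.repr_self]
    simp [Finsupp.single_apply]
  rw [← this, LinearMap.charpoly_toMatrix]

/-- an eigenvalue of an integral matrix is integral. -/
theorem isIntegral_of_eigen {n : Type*} [Fintype n] [DecidableEq n] [Algebra W Ω]
    (C : Matrix n n W) {v : n → Ω} (hv : v ≠ 0) {β : Ω}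
    (h : (C.map (algebraMap W Ω)).mulVec v = β • v) : IsIntegral W β := by
  refine ⟨C.charpoly, C.charpoly_monic, ?_⟩
  have h1 : ((Matrix.scalar n β) - C.map (algebraMap W Ω)).det = 0 := by
    apply Matrix.exists_mulVec_eq_zero_iff.1
    refine ⟨v, hv, ?_⟩
    rw [Matrix.sub_mulVec, h]
    ext i
    simp [Matrix.scalar_apply]
  rw [← Matrix.eval_charpoly, Matrix.charpoly_map, Polynomial.eval_map] at h1
  exact h1

theorem exists_eigenvector {n : Type*} [Fintype n] [DecidableEq n]
    (A : Matrix n n L) {α : Ω} (hα : α ∈ (A.charpoly.map (algebraMap L Ω)).roots) :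
    ∃ v : n → Ω, v ≠ 0 ∧ (A.map (algebraMap L Ω)).mulVec v = α • v := by
  rw [Polynomial.mem_roots'] at hα
  have h1 := hα.2
  rw [Polynomial.IsRoot.def, ← Matrix.charpoly_map, Matrix.eval_charpoly] at h1
  obtain ⟨v, hv, h2⟩ := Matrix.exists_mulVec_eq_zero_iff.2 h1
  refine ⟨v, hv, ?_⟩
  rw [Matrix.sub_mulVec, sub_eq_zero] at h2
  rw [← h2]
  ext i
  simp [Matrix.scalar_apply, Matrix.mulVec_diagonal]

theorem pow_mulVec_eigen {n : Type*} [Fintype n] [DecidableEq n]
    (A : Matrix n n Ω) {α : Ω} {v : n → Ω} (h : A.mulVec v = α • v) (s : ℕ) :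
    (A ^ s).mulVec v = α ^ s • v := by
  induction s with
  | zero => simp
  | succ s ih =>
    rw [pow_succ, ← Matrix.mulVec_mulVec, h, Matrix.mulVec_smul, ih, smul_smul, pow_succ']

end generic

section conc
variable {p : ℕ} [Fact p.Prime] {k : Type u} [Field k] [CharP k p] [PerfectRing k p] {a : ℤ}
  {N : Type v} [AddCommGroup N] [Module (WittVector p k) N] [Module (FractionRing (WittVector p k)) N]
  [IsScalarTower (WittVector p k) (FractionRing (WittVector p k)) N]

theorem finsum_mul_newtonMult (F : N →ₛₗ[Isoc.frob p k a] N) (hF : Isoc.IsIsoc F)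
    (hint : DirectSum.IsInternal (fun μ : ℚ => Isoc.slopePart F μ)) {d : ℤ}
    (hd : ODet (WittVector p k) (p : K(p, k)) F.toAddMonoidHom ⊤ d) :
    ∑ᶠ μ : ℚ, μ * (Isoc.newtonMult F μ : ℚ) = d := by
  classical
  have := hF.finite
  have hind := hint.submodule_iSupIndep
  have htop := hint.submodule_iSup_eq_top
  have hfin := WellFoundedGT.finite_ne_bot_of_iSupIndep hind
  have key : ∀ t : Finset ℚ, ∃ e : ℤ, ODet (WittVector p k) (p : K(p, k)) F.toAddMonoidHom
      (t.sup fun μ => Isoc.slopePart F μ) e ∧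
      (e : ℚ) = ∑ μ ∈ t, μ * (Isoc.newtonMult F μ : ℚ) := by
    intro t
    induction t using Finset.induction_on with
    | empty =>
      refine ⟨0, ?_, by simp⟩
      rw [Finset.sup_empty]
      exact ⟨0, fun i => i.elim0, 1, linearIndependent_empty_type, by simp, fun j => j.elim0,
        by rw [Matrix.det_one]; exact OrdP.one⟩
    | insert μ t hμ ih =>
      obtain ⟨e, he, he'⟩ := ih
      obtain ⟨e', he''⟩ := exists_oDet (W := WittVector p k) (π := (p : K(p, k))) (sl F)
        hF.bijective.1 (slopePart_stable F hF μ)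
      refine ⟨e' + e, ?_, ?_⟩
      · rw [Finset.sup_insert]
        exact ODet.sup (disjoint_sup_of_iSupIndep hind hμ) he'' he
      · have := (slopePart_isoIn F hF μ).oDet_eq (sl F) hF.bijective he''
        rw [Finset.sum_insert hμ, Int.cast_add, he', this]
        rfl
  obtain ⟨e, he, he'⟩ := key hfin.toFinset
  rw [sup_eq_top_of_iSup htop (by
    intro i hi
    by_contra h
    exact hi (hfin.mem_toFinset.2 h))] at he
  rw [hd.unique (sl F) he, he']
  apply finsum_eq_sum_of_support_subset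
  intro μ hμ
  rw [Function.mem_support] at hμ
  rw [Finset.mem_coe, hfin.mem_toFinset]
  change Isoc.slopePart F μ ≠ ⊥
  intro h
  apply hμ
  unfold Isoc.newtonMult
  rw [h]
  simp

variable {Ω : Type w} [Field Ω] [Algebra (WittVector p k) Ω] [Algebra (FractionRing (WittVector p k)) Ω]
    [IsScalarTower (WittVector p k) (FractionRing (WittVector p k)) Ω]

variable (p k) in
/-- the condition `ord α = μ m`. -/
def Cond (m : ℕ) (μ : ℚ) (α : Ω) : Prop :=
  IsIntegral (WittVector p k) (α ^ μ.den * (algebraMap K(p, k) Ω (p : K(p, k))) ^ (-(μ.num * (m : ℤ))))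
    ∧ IsIntegral (WittVector p k)
      (α ^ μ.den * (algebraMap K(p, k) Ω (p : K(p, k))) ^ (-(μ.num * (m : ℤ))))⁻¹

theorem pΩ_ne : algebraMap K(p, k) Ω (p : K(p, k)) ≠ 0 := by
  rw [map_ne_zero]
  exact pi_ne (WittVector p k)

theorem not_isIntegral_inv_p {n : ℕ} (hn : 0 < n) :
    ¬ IsIntegral (WittVector p k) ((algebraMap K(p, k) Ω (p : K(p, k))) ^ (-(n : ℤ))) := by
  intro h
  rw [zpow_neg, zpow_natCast, ← inv_pow] at h
  have h1 := IsIntegral.of_pow hn h
  rw [← map_inv₀] at h1
  have h2 : IsIntegral (WittVector p k) ((p : K(p, k))⁻¹) :=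
    (isIntegral_algebraMap_iff (algebraMap K(p, k) Ω).injective).1 h1
  obtain ⟨w, hw⟩ := (IsIntegrallyClosed.isIntegral_iff (R := WittVector p k) (K := K(p, k))).1 h2
  have h3 : w * (p : WittVector p k) = 1 := by
    apply IsFractionRing.injective (WittVector p k) K(p, k)
    rw [map_mul, hw, map_natCast, map_one, inv_mul_cancel₀ (pi_ne (WittVector p k))]
  exact (WittVector.irreducible p).not_isUnit (IsUnit.of_mul_eq_one_right w h3)

theorem Cond.unique {m : ℕ} (hm : 0 < m) {μ ν : ℚ} {α : Ω} (hα : α ≠ 0) (h : Cond p k m μ α)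
    (h' : Cond p k m ν α) : μ = ν := by
  have hp := pΩ_ne (p := p) (k := k) (Ω := Ω)
  set P : Ω := algebraMap K(p, k) Ω (p : K(p, k)) with hP
  -- the two quotients
  have e1 : (α ^ μ.den * P ^ (-(μ.num * (m : ℤ)))) ^ ν.den *
      ((α ^ ν.den * P ^ (-(ν.num * (m : ℤ))))⁻¹) ^ μ.den =
      P ^ ((m : ℤ) * (ν.num * μ.den - μ.num * ν.den)) := by
    rw [inv_pow, mul_pow, mul_pow, ← pow_mul, ← pow_mul, ← zpow_natCast, ← zpow_natCast,
      ← zpow_natCast, ← zpow_natCast, ← zpow_mul, ← zpow_mul, mul_inv, ← zpow_neg, ← zpow_neg]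
    have : α ^ (((μ.den * ν.den : ℕ)) : ℤ) * α ^ (-((ν.den * μ.den : ℕ) : ℤ)) = 1 := by
      rw [← zpow_add₀ hα]
      rw [show ((μ.den * ν.den : ℕ) : ℤ) + -((ν.den * μ.den : ℕ) : ℤ) = 0 by push_cast; ring,
        zpow_zero]
    calc _ = (α ^ (((μ.den * ν.den : ℕ)) : ℤ) * α ^ (-((ν.den * μ.den : ℕ) : ℤ))) *
          (P ^ (-(μ.num * (m : ℤ)) * (ν.den : ℤ)) * P ^ (-(-(ν.num * (m : ℤ)) * (μ.den : ℤ)))) := by
          ring
      _ = _ := by
          rw [this, one_mul, ← zpow_add₀ hp]
          congr 1; ring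
  have e2 : (α ^ ν.den * P ^ (-(ν.num * (m : ℤ)))) ^ μ.den *
      ((α ^ μ.den * P ^ (-(μ.num * (m : ℤ))))⁻¹) ^ ν.den =
      P ^ (-((m : ℤ) * (ν.num * μ.den - μ.num * ν.den))) := by
    rw [show P ^ (-((m : ℤ) * (ν.num * μ.den - μ.num * ν.den))) =
      (P ^ ((m : ℤ) * (ν.num * μ.den - μ.num * ν.den)))⁻¹ from zpow_neg _ _, ← e1]
    generalize α ^ μ.den * P ^ (-(μ.num * (m : ℤ))) = A
    generalize α ^ ν.den * P ^ (-(ν.num * (m : ℤ))) = B
    rw [mul_inv, inv_pow, inv_pow, inv_inv, mul_comm]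
  have i1 : IsIntegral (WittVector p k) (P ^ ((m : ℤ) * (ν.num * μ.den - μ.num * ν.den))) := by
    rw [← e1]; exact (h.1.pow _).mul (h'.2.pow _)
  have i2 : IsIntegral (WittVector p k) (P ^ (-((m : ℤ) * (ν.num * μ.den - μ.num * ν.den)))) := by
    rw [← e2]; exact (h'.1.pow _).mul (h.2.pow _)
  have hz : ν.num * μ.den - μ.num * ν.den = 0 := by
    by_contra hz
    have hm' : (0 : ℤ) < m := by exact_mod_cast hm
    rcases lt_or_gt_of_ne hz with hz | hz
    · have : (m : ℤ) * (ν.num * μ.den - μ.num * ν.den) < 0 := mul_neg_of_pos_of_neg hm' hz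
      obtain ⟨n, hn⟩ := Int.eq_ofNat_of_zero_le (neg_nonneg.2 this.le)
      have hn0 : 0 < n := by omega
      rw [show (m : ℤ) * (ν.num * μ.den - μ.num * ν.den) = -(n : ℤ) by omega] at i1
      exact not_isIntegral_inv_p hn0 i1
    · have : 0 < (m : ℤ) * (ν.num * μ.den - μ.num * ν.den) := mul_pos hm' hz
      obtain ⟨n, hn⟩ := Int.eq_ofNat_of_zero_le this.le
      have hn0 : 0 < n := by omega
      rw [hn] at i2
      exact not_isIntegral_inv_p hn0 i2
  rw [← Rat.num_div_den μ, ← Rat.num_div_den ν, div_eq_div_iff (by positivity) (by positivity)]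
  have : μ.num * ν.den = ν.num * μ.den := by linarith
  exact_mod_cast this

/-- roots of `F^m` on an isoclinic subspace. -/
theorem rootsOf_isoIn [IsAlgClosed Ω] (F : N →ₛₗ[Isoc.frob p k a] N) {m : ℕ}
    (π : N →ₗ[K(p, k)] N) (hπ : ∀ x : N, π x = (⇑F)^[m] x)
    {ν : ℚ} {P : Submodule K(p, k) N} (hP : ∀ x ∈ P, F x ∈ P)
    (h : IsoIn (WittVector p k) (p : K(p, k)) F.toAddMonoidHom ν P) :
    ∃ R : Multiset Ω, RootsOf Ω π P R ∧ Multiset.card R = Module.finrank K(p, k) P ∧
      ∀ α ∈ R, α ≠ 0 ∧ Cond p k m ν α := by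
  classical
  obtain ⟨M, hM, r, s, hs, hrs, hFM⟩ := h
  obtain ⟨b, hb, hsW, hsL⟩ := hM.exists_basis
  set f := F.toAddMonoidHom with hf
  have hsl := sl F
  have hπf : ∀ x, π x = it f m x := hπ
  have hπ' : ∀ (j : ℕ) (x : N), (⇑π)^[j] x = it f (m * j) x := by
    intro j x
    induction j with
    | zero => rfl
    | succ j ih =>
      rw [Function.iterate_succ', Function.comp_apply, ih, hπf, ← it_add_apply]
      congr 2; ring
  -- the matrix of `π`
  obtain ⟨A, hA⟩ := exists_matrix (L := K(p, k)) (b := b) (v := fun j => π (b j)) (fun j => by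
    rw [hsL, hπf]
    exact it_stable hP m (hsL ▸ Submodule.subset_span ⟨j, rfl⟩))
  have hApow : ∀ (i : ℕ) (j), (⇑π)^[i] (b j) = ∑ l, (A ^ i) l j • b l := by
    intro i
    induction i with
    | zero => intro j; simp [Matrix.one_apply]
    | succ i ih =>
      intro j
      rw [Function.iterate_succ', Function.comp_apply, ih, pow_succ', map_sum]
      simp_rw [map_smul]
      exact sum_matrix_mul (v := fun l => π (b l)) hA (fun j => rfl) j
  -- `π^s M = p^{rm} M`
  have hπM : img (it f (m * s)) M = pp (p : K(p, k)) (r * m) M := by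
    rw [mul_comm m s]; exact img_it_mul_eq hsl hFM m
  obtain ⟨C, hC⟩ := exists_matrix_W (W := WittVector p k) (L := K(p, k)) (b := b)
    (v := fun j => (p : K(p, k)) ^ (-(r * m)) • (⇑π)^[s] (b j)) (fun j => by
      rw [hsW, ← mem_pp, ← hπM, hπ']
      exact apply_mem_img (hsW ▸ Submodule.subset_span ⟨j, rfl⟩))
  have hD : ∀ j, ∃ y ∈ M, (p : K(p, k)) ^ (-(r * m)) • (⇑π)^[s] y = b j := by
    intro j
    have hbj : b j ∈ M := hsW ▸ Submodule.subset_span ⟨j, rfl⟩
    have h1 := smul_mem_pp (π := (p : K(p, k))) (r := r * m) hbj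
    rw [← hπM] at h1
    obtain ⟨y, hy, hy'⟩ := (mem_img (hsl.it _)).1 h1
    refine ⟨y, hy, ?_⟩
    rw [hπ', hy', smul_smul, zpow_neg, inv_mul_cancel₀ (zpow_ne (WittVector p k) _ _), one_smul]
  choose y hyM hy using hD
  obtain ⟨D, hD⟩ := exists_matrix_W (W := WittVector p k) (L := K(p, k)) (b := b)
    (v := y) (fun j => by rw [hsW]; exact hyM j)
  have hCA : C.map (algebraMap (WittVector p k) K(p, k)) = (p : K(p, k)) ^ (-(r * m)) • A ^ s := by
    apply matrix_unique hb
    intro j
    have h1 := hC j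
    have h2 : (p : K(p, k)) ^ (-(r * m)) • (⇑π)^[s] (b j) =
        ∑ i, ((p : K(p, k)) ^ (-(r * m)) • A ^ s) i j • b i := by
      rw [hApow, Finset.smul_sum]
      refine Finset.sum_congr rfl fun i _ => ?_
      rw [smul_smul]; rfl
    exact h1.symm.trans h2
  have hiter : ∀ (i : ℕ), ∃ g : N →ₗ[K(p, k)] N, ∀ x, g x = (⇑π)^[i] x := fun i =>
    ⟨π ^ i, fun x => by rw [Module.End.pow_apply]⟩
  obtain ⟨g, hg⟩ := hiter s
  have hCD : C.map (algebraMap (WittVector p k) K(p, k)) *
      D.map (algebraMap (WittVector p k) K(p, k)) = 1 := by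
    apply matrix_unique hb
    intro j
    have h3 : ∀ i, ((p : K(p, k)) ^ (-(r * m)) • g) (b i) =
        ∑ l, (C.map (algebraMap (WittVector p k) K(p, k))) l i • b l := by
      intro i
      rw [LinearMap.smul_apply, hg]
      exact hC i
    have h4 : ((p : K(p, k)) ^ (-(r * m)) • g) (y j) =
        ∑ l, (C.map (algebraMap (WittVector p k) K(p, k)) *
          D.map (algebraMap (WittVector p k) K(p, k))) l j • b l := by
      refine sum_matrix_mul (v := fun i => ((p : K(p, k)) ^ (-(r * m)) • g) (b i))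
        (w := fun j => ((p : K(p, k)) ^ (-(r * m)) • g) (y j)) h3 ?_ j
      intro j
      rw [hD j, map_sum]
      refine Finset.sum_congr rfl fun i _ => ?_
      rw [map_smul]; rfl
    rw [← h4, LinearMap.smul_apply, hg, hy]
    simp [Matrix.one_apply]
  refine ⟨_, ⟨_, b, A, hb, hsL, hA, rfl⟩, ?_, ?_⟩
  · rw [IsAlgClosed.card_roots_eq_natDegree, Polynomial.natDegree_map,
      Matrix.charpoly_natDegree_eq_dim, Fintype.card_fin]
  · intro α hα
    obtain ⟨v, hv, hAv⟩ := exists_eigenvector A hα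
    have hp := pΩ_ne (p := p) (k := k) (Ω := Ω)
    set Pp : Ω := algebraMap K(p, k) Ω (p : K(p, k)) with hPp
    set β : Ω := Pp ^ (-(r * (m : ℤ))) * α ^ s with hβ
    have hWL : ∀ {n : Type} (E : Matrix n n (WittVector p k)),
        (E.map (algebraMap (WittVector p k) K(p, k))).map (algebraMap K(p, k) Ω) =
          E.map (algebraMap (WittVector p k) Ω) := by
      intro n E
      ext i j
      simp [← IsScalarTower.algebraMap_apply]
    have hCv : (C.map (algebraMap (WittVector p k) Ω)).mulVec v = β • v := by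
      rw [← hWL, hCA]
      have h5 : (((p : K(p, k)) ^ (-(r * (m : ℤ))) • A ^ s).map (algebraMap K(p, k) Ω)) =
          Pp ^ (-(r * (m : ℤ))) • (A.map (algebraMap K(p, k) Ω)) ^ s := by
        have h6 : (A.map (algebraMap K(p, k) Ω)) ^ s = (A ^ s).map (algebraMap K(p, k) Ω) := by
          rw [← RingHom.mapMatrix_apply, ← map_pow]; rfl
        rw [h6]
        ext i j
        simp [hPp, map_mul, map_zpow₀]
      rw [h5, Matrix.smul_mulVec, pow_mulVec_eigen _ hAv, smul_smul]
    have hβi : IsIntegral (WittVector p k) β := isIntegral_of_eigen C hv hCv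
    have hDC : D.map (algebraMap (WittVector p k) Ω) * C.map (algebraMap (WittVector p k) Ω) = 1 := by
      have h7 := mul_eq_one_comm.1 hCD
      have h8 := congrArg (fun E => Matrix.map E (algebraMap K(p, k) Ω)) h7
      simp only [Matrix.map_mul, hWL] at h8
      rw [h8]
      exact Matrix.map_one _ (map_zero _) (map_one _)
    have hβ0 : β ≠ 0 := by
      intro h0
      rw [h0, zero_smul] at hCv
      apply hv
      have : (D.map (algebraMap (WittVector p k) Ω) * C.map (algebraMap (WittVector p k) Ω)).mulVec v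
          = 0 := by rw [← Matrix.mulVec_mulVec, hCv, Matrix.mulVec_zero]
      rwa [hDC, Matrix.one_mulVec] at this
    have hDv : (D.map (algebraMap (WittVector p k) Ω)).mulVec v = β⁻¹ • v := by
      have : (D.map (algebraMap (WittVector p k) Ω) * C.map (algebraMap (WittVector p k) Ω)).mulVec v
          = v := by rw [hDC, Matrix.one_mulVec]
      rw [← Matrix.mulVec_mulVec, hCv, Matrix.mulVec_smul] at this
      rw [← this, smul_smul, inv_mul_cancel₀ hβ0, one_smul, this]
    have hβi' : IsIntegral (WittVector p k) β⁻¹ := isIntegral_of_eigen D hv hDv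
    have hα0 : α ≠ 0 := by
      rintro rfl
      rw [zero_pow hs.ne', mul_zero] at hβ
      exact hβ0 hβ
    refine ⟨hα0, ?_⟩
    have hs0 : (s : ℚ) ≠ 0 := by positivity
    have hrden : r * ν.den = ν.num * s := by
      have h9 : (r : ℚ) / s = ν.num / ν.den := by rw [hrs, Rat.num_div_den]
      rw [div_eq_div_iff hs0 (by positivity)] at h9
      exact_mod_cast h9
    have key : (α ^ ν.den * Pp ^ (-(ν.num * (m : ℤ)))) ^ s = β ^ ν.den := by
      rw [hβ, mul_pow, mul_pow, ← pow_mul, ← pow_mul, ← zpow_natCast (Pp ^ _), ← zpow_natCast (Pp ^ _),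
        ← zpow_mul, ← zpow_mul, mul_comm s ν.den]
      rw [show -(ν.num * (m : ℤ)) * (s : ℤ) = -(r * (m : ℤ)) * (ν.den : ℤ) by
        linear_combination (m : ℤ) * hrden]
      ring
    constructor
    · apply IsIntegral.of_pow hs
      rw [key]
      exact hβi.pow _
    · apply IsIntegral.of_pow hs
      rw [inv_pow, key, ← inv_pow]
      exact hβi'.pow _

theorem newtonMult_eq_countP [IsAlgClosed Ω] (F : N →ₛₗ[Isoc.frob p k a] N) (hF : Isoc.IsIsoc F)
    [Module.Finite K(p, k) N]
    (hint : DirectSum.IsInternal (fun μ : ℚ => Isoc.slopePart F μ)) {m : ℕ} (hm : 0 < m)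
    (π : N →ₗ[K(p, k)] N) (hπ : ∀ x : N, π x = (⇑F)^[m] x)
    (μ : ℚ) [DecidablePred (Cond p k (Ω := Ω) m μ)] :
    Isoc.newtonMult F μ = Multiset.countP (Cond p k (Ω := Ω) m μ)
        ((π.charpoly.map (algebraMap K(p, k) Ω)).roots) := by
  classical
  have hind := hint.submodule_iSupIndep
  have htop := hint.submodule_iSup_eq_top
  have hfin := WellFoundedGT.finite_ne_bot_of_iSupIndep hind
  have key : ∀ t : Finset ℚ, ∃ R : Multiset Ω, RootsOf Ω π
      (t.sup fun μ => Isoc.slopePart F μ) R ∧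
      Multiset.countP (Cond p k (Ω := Ω) m μ) R = if μ ∈ t then Isoc.newtonMult F μ else 0 := by
    intro t
    induction t using Finset.induction_on with
    | empty =>
      refine ⟨0, ?_, by simp⟩
      rw [Finset.sup_empty]
      exact RootsOf.bot
    | insert ν t hν ih =>
      obtain ⟨R, hR, hR'⟩ := ih
      obtain ⟨S, hS, hS1, hS2⟩ := rootsOf_isoIn (Ω := Ω) F π hπ (slopePart_stable F hF ν)
        (slopePart_isoIn F hF ν)
      refine ⟨S + R, ?_, ?_⟩
      · rw [Finset.sup_insert]
        exact RootsOf.sup (disjoint_sup_of_iSupIndep hind hν) hS hR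
      · rw [Multiset.countP_add, hR']
        by_cases hμν : μ = ν
        · subst hμν
          rw [if_neg hν, if_pos (Finset.mem_insert_self _ _), add_zero,
            Multiset.countP_eq_card.2 (fun α hα => (hS2 α hα).2), hS1]
          rfl
        · have h0 : Multiset.countP (Cond p k (Ω := Ω) m μ) S = 0 := by
            rw [Multiset.countP_eq_zero]
            intro α hα hc
            exact hμν (Cond.unique hm (hS2 α hα).1 hc (hS2 α hα).2)
          rw [h0, zero_add]
          congr 1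
          rw [Finset.mem_insert, eq_iff_iff]
          constructor
          · exact fun h => Or.inr h
          · rintro (h | h)
            · exact absurd h hμν
            · exact h
  obtain ⟨R, hR, hR'⟩ := key hfin.toFinset
  rw [sup_eq_top_of_iSup htop (by
    intro i hi
    by_contra h
    exact hi (hfin.mem_toFinset.2 h))] at hR
  rw [← hR.top, hR']
  split_ifs with h
  · rfl
  · rw [hfin.mem_toFinset] at h
    have : Isoc.slopePart F μ = ⊥ := by
      by_contra h'
      exact h h'
    unfold Isoc.newtonMult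
    rw [this]
    simp

end conc

end K797.Lat
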