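import Groth.Agent.Isoc.K797.Det
import Groth.Agent.Isoc.K797.Frob

/-!
# From `Isoc.*` to the generic lattice library
-/

open scoped Pointwise Isocrystal

set_option linter.unusedSectionVars false

universe u v

namespace K797.Lat

section generic
variable {W L N : Type*} [CommRing W] [IsDomain W] [IsDiscreteValuationRing W] [Field L]
  [Algebra W L] [IsFractionRing W L]
  [AddCommGroup N] [Module W N] [Module L N] [IsScalarTower W L N]
  {π : L} [hU : Un W π]

/-- `P` is isoclinic of slope `μ` for `f`. -/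
def IsoIn (W : Type*) {L N : Type*} [CommRing W] [Field L] [Algebra W L]
    [AddCommGroup N] [Module W N] [Module L N] [IsScalarTower W L N] (π : L)
    (f : N →+ N) (μ : ℚ) (P : Submodule L N) : Prop :=
  ∃ M : Submodule W N, LatIn P M ∧ ∃ (r : ℤ) (s : ℕ), 0 < s ∧ (r : ℚ) / s = μ ∧
    img (it f s) M = pp π r M

variable {N' : Type*} [AddCommGroup N'] [Module W N'] [Module L N'] [IsScalarTower W L N']

/-- transport of lattices along an injective linear map. -/
theorem latIn_map {e : N' →ₗ[L] N} {P : Submodule L N'} {M : Submodule W N'} (h : LatIn P M) :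
    LatIn (P.map e) (M.map (e.restrictScalars W)) := by
  refine ⟨h.fg.map _, ?_⟩
  rw [Submodule.map_coe]
  change Submodule.span L (e '' (M : Set N')) = _
  rw [← Submodule.map_span, h.span]

theorem map_img {f : N →+ N} {f' : N' →+ N'} (hf' : SL W π f') (hf : SL W π f)
    (e : N' →ₗ[L] N)
    (he : ∀ x, e (f' x) = f (e x)) (s : ℕ) (M : Submodule W N') :
    (img (it f' s) M).map (e.restrictScalars W) = img (it f s) (M.map (e.restrictScalars W)) := by
  have he' : ∀ s x, e (it f' s x) = it f s (e x) := by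
    intro s
    induction s with
    | zero => intro x; rfl
    | succ s ih => intro x; rw [it_succ_apply, it_succ_apply, he, ih]
  ext x
  rw [Submodule.mem_map, mem_img (hf.it s)]
  constructor
  · rintro ⟨y, hy, rfl⟩
    obtain ⟨z, hz, rfl⟩ := (mem_img (hf'.it s)).1 hy
    exact ⟨e z, ⟨z, hz, rfl⟩, (he' s z).symm⟩
  · rintro ⟨y, ⟨z, hz, rfl⟩, rfl⟩
    exact ⟨it f' s z, apply_mem_img hz, he' s z⟩

theorem map_pp (e : N' →ₗ[L] N) (r : ℤ) (M : Submodule W N') :
    (pp π r M).map (e.restrictScalars W) = pp π r (M.map (e.restrictScalars W)) := by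
  ext x
  rw [Submodule.mem_map, mem_pp]
  constructor
  · rintro ⟨y, hy, rfl⟩
    exact ⟨π ^ (-r) • y, mem_pp.1 hy, map_smul e _ _⟩
  · rintro ⟨y, hy, hxy⟩
    refine ⟨π ^ r • y, smul_mem_pp hy, ?_⟩
    have : e y = π ^ (-r) • x := hxy
    change e (π ^ r • y) = x
    rw [map_smul, this, smul_smul, zpow_neg, mul_inv_cancel₀ (zpow_ne W π r), one_smul]

/-- transport of isoclinicity along an injective equivariant linear map. -/
theorem isoIn_map_iff {f : N →+ N} {f' : N' →+ N'} (hf' : SL W π f') (hf : SL W π f)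
    (e : N' →ₗ[L] N) (hi : Function.Injective e)
    (he : ∀ x, e (f' x) = f (e x)) (μ : ℚ) (P : Submodule L N') :
    IsoIn W π f μ (P.map e) ↔ IsoIn W π f' μ P := by
  constructor
  · rintro ⟨M, hM, r, s, hs, hrs, h⟩
    -- `M` is contained in the image of `e`
    have hM' : ∃ M' : Submodule W N', M'.map (e.restrictScalars W) = M := by
      refine ⟨M.comap (e.restrictScalars W), ?_⟩
      rw [Submodule.map_comap_eq, inf_eq_right]
      intro x hx
      obtain ⟨y, -, hy⟩ := hM.le hx
      exact ⟨y, hy⟩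
    obtain ⟨M', rfl⟩ := hM'
    have hi' : Function.Injective (e.restrictScalars W) := hi
    refine ⟨M', ⟨?_, ?_⟩, r, s, hs, hrs, ?_⟩
    · exact Submodule.fg_of_fg_map_injective _ hi' hM.fg
    · apply Submodule.map_injective_of_injective hi
      rw [Submodule.map_span, ← hM.span]
      rfl
    · apply Submodule.map_injective_of_injective hi'
      rw [map_img hf' hf e he, map_pp, h]
  · rintro ⟨M, hM, r, s, hs, hrs, h⟩
    refine ⟨M.map (e.restrictScalars W), latIn_map hM, r, s, hs, hrs, ?_⟩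
    rw [← map_img hf' hf e he, ← map_pp, h]

end generic

section conc
variable {p : ℕ} [Fact p.Prime] {k : Type u} [Field k] [CharP k p] [PerfectRing k p] {a : ℤ}
  {N : Type v} [AddCommGroup N] [Module (WittVector p k) N] [Module (FractionRing (WittVector p k)) N]
  [IsScalarTower (WittVector p k) (FractionRing (WittVector p k)) N]

theorem sl (F : N →ₛₗ[Isoc.frob p k a] N) :
    SL (WittVector p k) (p : K(p, k)) F.toAddMonoidHom :=
  ⟨Isoc.frob p k a, K797.Frob.frob_good p k a, fun c x => map_smulₛₗ F c x⟩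

theorem latImg_eq (F : N →ₛₗ[Isoc.frob p k a] N) (s : ℕ) (M : Submodule (WittVector p k) N) :
    Isoc.latImg F s M = img (it F.toAddMonoidHom s) M := rfl

theorem pPow_eq (r : ℤ) (M : Submodule (WittVector p k) N) :
    Isoc.pPow r M = pp (p : K(p, k)) r M := rfl

theorem isOrdP_iff (c : K(p, k)) (r : ℤ) :
    Isoc.IsOrdP c r ↔ OrdP (WittVector p k) (p : K(p, k)) c r := Iff.rfl

theorem oDet_top {h : ℕ} (b : Module.Basis (Fin h) K(p, k) N) (F : N →ₛₗ[Isoc.frob p k a] N)
    {d : ℤ} (hd : Isoc.IsOrdP (Isoc.detCoeff b F) d) :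
    ODet (WittVector p k) (p : K(p, k)) F.toAddMonoidHom ⊤ d :=
  ⟨h, b, Matrix.of fun i j => b.repr (F (b j)) i, b.linearIndependent, b.span_eq,
    fun j => (b.sum_repr (F (b j))).symm, hd⟩

theorem isIsoclinic_iff (F : N →ₛₗ[Isoc.frob p k a] N) (μ : ℚ) :
    Isoc.IsIsoclinic F μ ↔ IsoIn (WittVector p k) (p : K(p, k)) F.toAddMonoidHom μ ⊤ := by
  constructor
  · rintro ⟨M, hM, r, s, hs, hrs, h⟩
    exact ⟨M, latIn_top.2 hM, r, s, hs, hrs, h⟩
  · rintro ⟨M, hM, r, s, hs, hrs, h⟩
    exact ⟨M, latIn_top.1 hM, r, s, hs, hrs, h⟩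

theorem isIsoclinic_restrict_iff (F : N →ₛₗ[Isoc.frob p k a] N) (μ : ℚ)
    (P : Submodule K(p, k) N) (hP : ∀ x ∈ P, F x ∈ P) :
    Isoc.IsIsoclinic (F.restrict hP) μ ↔
      IsoIn (WittVector p k) (p : K(p, k)) F.toAddMonoidHom μ P := by
  rw [isIsoclinic_iff]
  have := isoIn_map_iff (W := WittVector p k) (π := (p : K(p, k))) (sl (F.restrict hP)) (sl F)
    P.subtype (Submodule.injective_subtype P) (fun x => rfl) μ ⊤
  rw [Submodule.map_top, Submodule.range_subtype] at this
  exact this.symm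

theorem slopePart_eq (F : N →ₛₗ[Isoc.frob p k a] N) (μ : ℚ) :
    Isoc.slopePart F μ = sSup {P : Submodule K(p, k) N | (∀ x ∈ P, F x ∈ P) ∧
      IsoIn (WittVector p k) (p : K(p, k)) F.toAddMonoidHom μ P} := by
  unfold Isoc.slopePart
  congr 1
  ext P
  constructor
  · rintro ⟨hP, h⟩
    exact ⟨hP, (isIsoclinic_restrict_iff F μ P hP).1 h⟩
  · rintro ⟨hP, h⟩
    exact ⟨hP, (isIsoclinic_restrict_iff F μ P hP).2 h⟩

end conc

end K797.Lat
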